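import Mathlib

set_option autoImplicit false

/-!
Functions written with bare recursors and the arithmetic the kernel computes with, for
`decide +kernel`, and what they compute.
-/

namespace Cfsg.Agent.Helper9.J3

/-- the universal quantifier over the numbers below a bound. -/
def allB (p : ℕ → Bool) (m : ℕ) : Bool :=
  Nat.rec true (fun i ih => Bool.rec false ih (p i)) m

theorem allB_succ (p : ℕ → Bool) (m : ℕ) :
    allB p (m + 1) = Bool.rec false (allB p m) (p m) := rfl

theorem allB_true {p : ℕ → Bool} {m : ℕ} (h : allB p m = true) {i : ℕ} (hi : i < m) :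
    p i = true := by
  induction m with
  | zero => omega
  | succ m ih =>
    rw [allB_succ] at h
    cases hp : p m with
    | false =>
      rw [hp] at h
      exact absurd h Bool.false_ne_true
    | true =>
      rw [hp] at h
      rcases Nat.lt_succ_iff_lt_or_eq.1 hi with h1 | h1
      · exact ih h h1
      · rw [h1]
        exact hp

/-- a check on a range of numbers. -/
def allC (p : ℕ → Bool) (k c : ℕ) : Bool := allB (fun i => p (Nat.add (Nat.mul k c) i)) c

theorem allC_true {p : ℕ → Bool} {c K : ℕ} (h : ∀ k, k < K → allC p k c = true) {v : ℕ}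
    (hv : v < K * c) : p v = true := by
  have hc : 0 < c := by
    rcases Nat.eq_zero_or_pos c with h0 | h0
    · rw [h0] at hv
      omega
    · exact h0
  have hk : v / c < K := Nat.div_lt_of_lt_mul (by rwa [Nat.mul_comm] at hv)
  have hi : v % c < c := Nat.mod_lt _ hc
  have h1 := allB_true (h (v / c) hk) hi
  have h2 : Nat.add (Nat.mul (v / c) c) (v % c) = v := Nat.div_add_mod' v c
  rw [h2] at h1
  exact h1

/-- the conjunction. -/
def andB (a b : Bool) : Bool := Bool.rec false b a

theorem andB_true {a b : Bool} (h : andB a b = true) : a = true ∧ b = true := by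
  cases a
  · exact absurd h Bool.false_ne_true
  · exact ⟨rfl, h⟩

/-- application after evaluating the argument. -/
def sapp {α : Type} (f : ℕ → α) (x : ℕ) : α := Nat.rec (f 0) (fun k _ => f (Nat.succ k)) x

theorem sapp_eq {α : Type} (f : ℕ → α) (x : ℕ) : sapp f x = f x := by
  cases x <;> rfl

/-- the test of being zero. -/
def ifz {α : Type} (x : ℕ) (a b : α) : α := Nat.rec a (fun _ _ => b) x

theorem ifz_zero {α : Type} (a b : α) : ifz 0 a b = a := rfl

theorem ifz_pos {α : Type} {x : ℕ} (hx : x ≠ 0) (a b : α) : ifz x a b = b := by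
  cases x
  · exact absurd rfl hx
  · rfl

/-- an entry of a packed table. -/
def lkF (k msk T i : ℕ) : ℕ := Nat.land (Nat.shiftRight T (Nat.mul k i)) msk

theorem lkF_eq (k T i : ℕ) : lkF k (2 ^ k - 1) T i = (T >>> (k * i)) &&& (2 ^ k - 1) := rfl

theorem lkF_lt (k T i : ℕ) : lkF k (2 ^ k - 1) T i < 2 ^ k := by
  rw [lkF_eq]
  exact Nat.lt_of_le_of_lt Nat.and_le_right (Nat.sub_lt (Nat.two_pow_pos k) Nat.one_pos)

/-- the mask of the values of a function. -/
def maskF (f : ℕ → ℕ) (m : ℕ) : ℕ :=
  Nat.rec 0 (fun j acc => Nat.lor acc (Nat.shiftLeft 1 (f j))) m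

theorem maskF_succ (f : ℕ → ℕ) (m : ℕ) : maskF f (m + 1) = maskF f m ||| (1 <<< f m) := rfl

theorem testBit_maskF (f : ℕ → ℕ) (m i : ℕ) :
    (maskF f m).testBit i = decide (∃ j, j < m ∧ f j = i) := by
  induction m with
  | zero =>
    have : maskF f 0 = 0 := rfl
    simp [this]
  | succ m ih =>
    rw [maskF_succ, Nat.testBit_or, ih, Nat.one_shiftLeft, Nat.testBit_two_pow, ← Bool.decide_or]
    apply decide_eq_decide.2
    constructor
    · rintro (⟨j, hj, hji⟩ | h)
      · exact ⟨j, by omega, hji⟩
      · exact ⟨m, by omega, h⟩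
    · rintro ⟨j, hj, hji⟩
      rcases Nat.lt_succ_iff_lt_or_eq.1 hj with h | h
      · exact Or.inl ⟨j, h, hji⟩
      · right
        rw [← h]
        exact hji

theorem maskF_eq_iff {f g : ℕ → ℕ} {m m' : ℕ} (h : maskF f m = maskF g m') (i : ℕ) :
    (∃ j, j < m ∧ f j = i) ↔ (∃ j, j < m' ∧ g j = i) := by
  have h1 := testBit_maskF f m i
  have h2 := testBit_maskF g m' i
  rw [h] at h1
  rw [h1] at h2
  exact decide_eq_decide.1 h2

/-- the sum of the values of a function. -/
def sumF (f : ℕ → ℕ) (m : ℕ) : ℕ := Nat.rec 0 (fun j acc => Nat.add (f j) acc) m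

theorem sumF_succ (f : ℕ → ℕ) (m : ℕ) : sumF f (m + 1) = f m + sumF f m := rfl

theorem sumF_eq (f : ℕ → ℕ) (m : ℕ) : sumF f m = ((List.range m).map f).sum := by
  induction m with
  | zero => rfl
  | succ m ih =>
    rw [sumF_succ, List.range_succ, List.map_append, List.sum_append, ih]
    simp [Nat.add_comm]

end Cfsg.Agent.Helper9.J3
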