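import Mathlib
import Cfsg.Agent.Helper9.J2.PChain
import Cfsg.Agent.Helper9.J3.Data
import Cfsg.Agent.Helper9.J3.Fast

set_option autoImplicit false

/-!
The four letters as permutations of 6156 points, the group they generate, and words.
-/

namespace Cfsg.Agent.Helper9.J3

open Cfsg.Agent.Helper9.PChain

/-- the degree. -/
abbrev n : ℕ := 6156

/-- an entry of a table of entries of 13 bits. -/
def lk13 (T i : ℕ) : ℕ := lkF 13 8191 T i

theorem lk13_lt (T i : ℕ) : lk13 T i < 8192 := lkF_lt 13 T i

/-- the table of a letter. -/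
def sel (l : ℕ) : ℕ :=
  Nat.rec tab0 (fun l1 _ => Nat.rec tab1 (fun l2 _ => Nat.rec tab2 (fun _ _ => tab3) l2) l1) l

/-- the letters, as the kernel computes them. -/
def tabF (l x : ℕ) : ℕ := lk13 (sel l) x

/-- the inverse letter. -/
def linv (l : ℕ) : ℕ := Nat.land (Nat.add l 2) 3

theorem linv_lt (l : ℕ) : linv l < 4 :=
  Nat.lt_of_le_of_lt (Nat.and_le_right (n := l + 2) (m := 3)) (by norm_num)

theorem linv_linv {l : ℕ} (hl : l < 4) : linv (linv l) = l := by
  interval_cases l <;> rfl

set_option maxRecDepth 1000000 in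
theorem tab_ok_b : allB (fun l => allB (fun x => andB (Nat.ble (tabF l x) 6155)
    (Nat.beq (tabF (linv l) (tabF l x)) x)) n) 4 = true := by decide +kernel

theorem tab_ok (l x : ℕ) (hl : l < 4) (hx : x < n) :
    tabF l x < n ∧ tabF (linv l) (tabF l x) = x := by
  have h := andB_true (allB_true (allB_true tab_ok_b hl) hx)
  exact ⟨Nat.lt_succ_of_le (Nat.le_of_ble_eq_true h.1), Nat.eq_of_beq_eq_true h.2⟩

/-- the letters. -/
def tab (l x : ℕ) : ℕ := if l < 4 then tabF l x else x

theorem tab_of_lt {l : ℕ} (hl : l < 4) (x : ℕ) : tab l x = tabF l x := if_pos hl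

theorem tab_ge (l x : ℕ) (hl : ¬ l < 4) : tab l x = x := if_neg hl

theorem tab_lt (l x : ℕ) (hx : x < n) : tab l x < n := by
  by_cases hl : l < 4
  · rw [tab_of_lt hl]
    exact (tab_ok l x hl hx).1
  · rw [tab_ge l x hl]
    exact hx

theorem tab_inv (l x : ℕ) (hl : l < 4) (hx : x < n) : tab (linv l) (tab l x) = x := by
  rw [tab_of_lt hl, tab_of_lt (linv_lt l)]
  exact (tab_ok l x hl hx).2

theorem tab_inv' (l x : ℕ) (hl : l < 4) (hx : x < n) : tab l (tab (linv l) x) = x := by
  have := tab_inv (linv l) x (linv_lt l) hx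
  rwa [linv_linv hl] at this

/-- the letters as permutations. -/
def P (l : ℕ) : Equiv.Perm (Fin n) :=
  if hl : l < 4 then
    mkPerm (tab l) (tab (linv l)) (fun x hx => tab_lt l x hx) (fun x hx => tab_lt _ x hx)
      (fun x hx => tab_inv l x hl hx) (fun x hx => tab_inv' l x hl hx)
  else 1

theorem P_apply (l : ℕ) (x : Fin n) : (P l x).val = tab l x.val := by
  unfold P
  by_cases hl : l < 4
  · rw [dif_pos hl]
    rfl
  · rw [dif_neg hl, tab_ge l x.val hl]
    rfl

theorem P_linv (l : ℕ) (hl : l < 4) : P (linv l) = (P l)⁻¹ := by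
  rw [eq_inv_iff_mul_eq_one]
  ext x
  change ((P (linv l)) ((P l) x)).val = x.val
  rw [P_apply, P_apply]
  exact tab_inv l x.val hl x.isLt

/-- the group generated by the letters. -/
def G : Subgroup (Equiv.Perm (Fin n)) := Subgroup.closure (Set.range fun l : Fin 4 => P l.val)

theorem P_mem (l : ℕ) : P l ∈ G := by
  by_cases hl : l < 4
  · exact Subgroup.subset_closure ⟨⟨l, hl⟩, rfl⟩
  · unfold P
    rw [dif_neg hl]
    exact G.one_mem

/-- the permutation of a word. -/
def permW (w : List ℕ) : Equiv.Perm (Fin n) := (w.map P).prod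

theorem permW_mem (w : List ℕ) : permW w ∈ G := by
  apply Subgroup.list_prod_mem
  intro x hx
  obtain ⟨l, -, rfl⟩ := List.mem_map.1 hx
  exact P_mem l

theorem permW_apply (w : List ℕ) (x : Fin n) : (permW w x).val = evalW tab w x.val :=
  prod_apply tab P P_apply w x

theorem permW_append (a b : List ℕ) : permW (a ++ b) = permW a * permW b := by
  unfold permW
  rw [List.map_append, List.prod_append]

theorem permW_nil : permW [] = 1 := rfl

theorem permW_cons (a : ℕ) (w : List ℕ) : permW (a :: w) = P a * permW w := by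
  unfold permW
  rw [List.map_cons, List.prod_cons]

end Cfsg.Agent.Helper9.J3
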