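import Mathlib
import Cfsg.Agent.Helper9.J3.Tabs

set_option autoImplicit false

/-!
Packed words, the two Schreier trees, and the permutations they give, with the functions by which
the kernel follows them.
-/

namespace Cfsg.Agent.Helper9.J3

open Cfsg.Agent.Helper9.PChain

def lk15 (T i : ℕ) : ℕ := lkF 15 32767 T i
def lk17 (T i : ℕ) : ℕ := lkF 17 131071 T i
def lk3 (T i : ℕ) : ℕ := lkF 3 7 T i
def lk48 (T i : ℕ) : ℕ := lkF 48 281474976710655 T i

/-- a letter applied to a point, both evaluated first. -/
def app (l x : ℕ) : ℕ := sapp (fun l' => sapp (fun x' => lk13 (sel l') x') x) l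

theorem app_eq (l x : ℕ) : app l x = tabF l x := by
  unfold app
  rw [sapp_eq, sapp_eq]
  rfl

theorem P_apply_lt {l : ℕ} (hl : l < 4) (p : Fin n) : (P l p).val = app l p.val := by
  rw [P_apply, tab_of_lt hl, app_eq]

theorem P_inv_apply_lt {l : ℕ} (hl : l < 4) (p : Fin n) :
    ((P l)⁻¹ p).val = app (linv l) p.val := by
  rw [← P_linv l hl, P_apply_lt (linv_lt l)]

/-- the letter at a place of a packed word. -/
def letP (w i : ℕ) : ℕ := Nat.land (Nat.shiftRight w (Nat.mul 2 i)) 3

theorem letP_lt (w i : ℕ) : letP w i < 4 :=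
  Nat.lt_of_le_of_lt (Nat.and_le_right (n := w >>> (2 * i)) (m := 3)) (by norm_num)

/-- the image of a point under a packed word. -/
def evP (w len p : ℕ) : ℕ := Nat.rec p (fun i acc => app (letP w i) acc) len

/-- the image of a point under the inverse of a packed word. -/
def evPi (w len p : ℕ) : ℕ :=
  Nat.rec (motive := fun _ => ℕ → ℕ) (fun p => p) (fun i ih p => ih (app (linv (letP w i)) p))
    len p

/-- the permutation of a packed word. -/
def permP (w : ℕ) : ℕ → Equiv.Perm (Fin n)
  | 0 => 1
  | len + 1 => P (letP w len) * permP w len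

theorem permP_apply (w len : ℕ) (p : Fin n) : (permP w len p).val = evP w len p.val := by
  induction len with
  | zero => rfl
  | succ len ih =>
    change (P (letP w len) (permP w len p)).val = app (letP w len) (evP w len p.val)
    rw [P_apply_lt (letP_lt w len), ih]

theorem permP_inv_apply (w len : ℕ) (p : Fin n) :
    ((permP w len)⁻¹ p).val = evPi w len p.val := by
  induction len generalizing p with
  | zero => rfl
  | succ len ih =>
    have h1 : (permP w (len + 1))⁻¹ = (permP w len)⁻¹ * (P (letP w len))⁻¹ := by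
      change (P (letP w len) * permP w len)⁻¹ = _
      rw [mul_inv_rev]
    rw [h1]
    change ((permP w len)⁻¹ ((P (letP w len))⁻¹ p)).val =
      evPi w len (app (linv (letP w len)) p.val)
    rw [ih, P_inv_apply_lt (letP_lt w len)]

theorem permP_mem (w len : ℕ) : permP w len ∈ G := by
  induction len with
  | zero => exact G.one_mem
  | succ len ih => exact G.mul_mem (P_mem _) ih

/-- the image of a point under a generator of the second level. -/
def gen (a p : ℕ) : ℕ :=
  sapp (fun e => evP (Nat.shiftRight e 6) (Nat.land e 63) p) (lk48 gwP a)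

/-- the image of a point under the inverse of a generator of the second level. -/
def geni (a p : ℕ) : ℕ :=
  sapp (fun e => evPi (Nat.shiftRight e 6) (Nat.land e 63) p) (lk48 gwP a)

/-- the generators of the second level. -/
def genP (a : ℕ) : Equiv.Perm (Fin n) :=
  permP (Nat.shiftRight (lk48 gwP a) 6) (Nat.land (lk48 gwP a) 63)

theorem genP_apply (a : ℕ) (p : Fin n) : (genP a p).val = gen a p.val := by
  unfold genP gen
  rw [sapp_eq, permP_apply]

theorem genP_inv_apply (a : ℕ) (p : Fin n) : ((genP a)⁻¹ p).val = geni a p.val := by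
  unfold genP geni
  rw [sapp_eq, permP_inv_apply]

theorem genP_mem (a : ℕ) : genP a ∈ G := permP_mem _ _

/-! ### The first tree -/

/-- the image of a point under the element of the first tree at `x`. -/
def fw1 (f : ℕ) : ℕ → ℕ → ℕ :=
  Nat.rec (motive := fun _ => ℕ → ℕ → ℕ) (fun _ p => p)
    (fun _ ih x p => sapp (fun x' => ifz x' p (sapp (fun e =>
      sapp (fun par => app (Nat.land e 3) (ih par p)) (Nat.shiftRight e 2)) (lk15 tree1 x'))) x) f

/-- the image of a point under the inverse of the element of the first tree at `x`. -/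
def bw1 (f : ℕ) : ℕ → ℕ → ℕ :=
  Nat.rec (motive := fun _ => ℕ → ℕ → ℕ) (fun _ p => p)
    (fun _ ih x p => sapp (fun x' => ifz x' p (sapp (fun e =>
      ih (Nat.shiftRight e 2) (app (linv (Nat.land e 3)) p)) (lk15 tree1 x'))) x) f

theorem fw1_zero (x p : ℕ) : fw1 0 x p = p := rfl

theorem fw1_succ (f x p : ℕ) : fw1 (f + 1) x p =
    ifz x p (app (Nat.land (lk15 tree1 x) 3) (fw1 f (Nat.shiftRight (lk15 tree1 x) 2) p)) := by
  change sapp (fun x' => ifz x' p (sapp (fun e =>
      sapp (fun par => app (Nat.land e 3) (fw1 f par p)) (Nat.shiftRight e 2))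
        (lk15 tree1 x'))) x = _
  simp only [sapp_eq]

theorem bw1_zero (x p : ℕ) : bw1 0 x p = p := rfl

theorem bw1_succ (f x p : ℕ) : bw1 (f + 1) x p =
    ifz x p (bw1 f (Nat.shiftRight (lk15 tree1 x) 2)
      (app (linv (Nat.land (lk15 tree1 x) 3)) p)) := by
  change sapp (fun x' => ifz x' p (sapp (fun e =>
      bw1 f (Nat.shiftRight e 2) (app (linv (Nat.land e 3)) p)) (lk15 tree1 x'))) x = _
  simp only [sapp_eq]

theorem land3_lt (e : ℕ) : Nat.land e 3 < 4 :=
  Nat.lt_of_le_of_lt (Nat.and_le_right (n := e) (m := 3)) (by norm_num)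

/-- the elements of the first tree. -/
def T1 : ℕ → ℕ → Equiv.Perm (Fin n)
  | 0, _ => 1
  | f + 1, x => if x = 0 then 1 else
      P (Nat.land (lk15 tree1 x) 3) * T1 f (Nat.shiftRight (lk15 tree1 x) 2)

theorem T1_apply (f x : ℕ) (p : Fin n) : (T1 f x p).val = fw1 f x p.val := by
  induction f generalizing x with
  | zero => rfl
  | succ f ih =>
    rw [fw1_succ]
    unfold T1
    by_cases hx : x = 0
    · rw [if_pos hx, hx, ifz_zero]
      rfl
    · rw [if_neg hx, ifz_pos hx]
      change (P _ (T1 f _ p)).val = _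
      rw [P_apply_lt (land3_lt _), ih]

theorem T1_inv_apply (f x : ℕ) (p : Fin n) : ((T1 f x)⁻¹ p).val = bw1 f x p.val := by
  induction f generalizing x p with
  | zero => rfl
  | succ f ih =>
    rw [bw1_succ]
    unfold T1
    by_cases hx : x = 0
    · rw [if_pos hx, hx, ifz_zero]
      rfl
    · rw [if_neg hx, ifz_pos hx, mul_inv_rev]
      change ((T1 f _)⁻¹ ((P _)⁻¹ p)).val = _
      rw [ih, P_inv_apply_lt (land3_lt _)]

theorem T1_mem (f x : ℕ) : T1 f x ∈ G := by
  induction f generalizing x with
  | zero => exact G.one_mem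
  | succ f ih =>
    unfold T1
    split
    · exact G.one_mem
    · exact G.mul_mem (P_mem _) (ih _)

/-! ### The second tree -/

/-- the image of a point under the element of the second tree at `y`. -/
def fw2 (f : ℕ) : ℕ → ℕ → ℕ :=
  Nat.rec (motive := fun _ => ℕ → ℕ → ℕ) (fun _ p => p)
    (fun _ ih y p => sapp (fun y' => sapp (fun e2 => ifz e2 p (sapp (fun e =>
      sapp (fun par => gen (Nat.land e 7) (ih par p)) (Nat.shiftRight e 3)) (Nat.pred e2)))
        (lk17 tree2 y')) y) f

/-- the image of a point under the inverse of the element of the second tree at `y`. -/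
def bw2 (f : ℕ) : ℕ → ℕ → ℕ :=
  Nat.rec (motive := fun _ => ℕ → ℕ → ℕ) (fun _ p => p)
    (fun _ ih y p => sapp (fun y' => sapp (fun e2 => ifz e2 p (sapp (fun e =>
      ih (Nat.shiftRight e 3) (geni (Nat.land e 7) p)) (Nat.pred e2)))
        (lk17 tree2 y')) y) f

theorem fw2_zero (y p : ℕ) : fw2 0 y p = p := rfl

theorem fw2_succ (f y p : ℕ) : fw2 (f + 1) y p =
    ifz (lk17 tree2 y) p (gen (Nat.land (Nat.pred (lk17 tree2 y)) 7)
      (fw2 f (Nat.shiftRight (Nat.pred (lk17 tree2 y)) 3) p)) := by
  change sapp (fun y' => sapp (fun e2 => ifz e2 p (sapp (fun e =>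
      sapp (fun par => gen (Nat.land e 7) (fw2 f par p)) (Nat.shiftRight e 3)) (Nat.pred e2)))
        (lk17 tree2 y')) y = _
  simp only [sapp_eq]

theorem bw2_zero (y p : ℕ) : bw2 0 y p = p := rfl

theorem bw2_succ (f y p : ℕ) : bw2 (f + 1) y p =
    ifz (lk17 tree2 y) p (bw2 f (Nat.shiftRight (Nat.pred (lk17 tree2 y)) 3)
      (geni (Nat.land (Nat.pred (lk17 tree2 y)) 7) p)) := by
  change sapp (fun y' => sapp (fun e2 => ifz e2 p (sapp (fun e =>
      bw2 f (Nat.shiftRight e 3) (geni (Nat.land e 7) p)) (Nat.pred e2)))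
        (lk17 tree2 y')) y = _
  simp only [sapp_eq]

/-- the elements of the second tree. -/
def U2 : ℕ → ℕ → Equiv.Perm (Fin n)
  | 0, _ => 1
  | f + 1, y => if lk17 tree2 y = 0 then 1 else
      genP (Nat.land (Nat.pred (lk17 tree2 y)) 7) *
        U2 f (Nat.shiftRight (Nat.pred (lk17 tree2 y)) 3)

theorem U2_apply (f y : ℕ) (p : Fin n) : (U2 f y p).val = fw2 f y p.val := by
  induction f generalizing y with
  | zero => rfl
  | succ f ih =>
    rw [fw2_succ]
    unfold U2
    by_cases hy : lk17 tree2 y = 0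
    · rw [if_pos hy, hy, ifz_zero]
      rfl
    · rw [if_neg hy, ifz_pos hy]
      change (genP _ (U2 f _ p)).val = _
      rw [genP_apply, ih]

theorem U2_inv_apply (f y : ℕ) (p : Fin n) : ((U2 f y)⁻¹ p).val = bw2 f y p.val := by
  induction f generalizing y p with
  | zero => rfl
  | succ f ih =>
    rw [bw2_succ]
    unfold U2
    by_cases hy : lk17 tree2 y = 0
    · rw [if_pos hy, hy, ifz_zero]
      rfl
    · rw [if_neg hy, ifz_pos hy, mul_inv_rev]
      change ((U2 f _)⁻¹ ((genP _)⁻¹ p)).val = _
      rw [ih, genP_inv_apply]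

/-! ### The checks -/

/-- the disjunction. -/
def orB (a b : Bool) : Bool := Bool.rec b true a

theorem orB_true {a b : Bool} (h : orB a b = true) : a = true ∨ b = true := by
  cases a
  · exact Or.inr h
  · exact Or.inl rfl

/-- the orbit of the third base point. -/
def inO3 (z : ℕ) : Bool :=
  orB (Nat.beq z 1) (orB (Nat.beq z 5458) (orB (Nat.beq z 3330) (Nat.beq z 2750)))

/-- the representatives of the orbits of the stabiliser of the first base point. -/
def repP : ℕ := 230267728488102070724828602368

/-- the first tree leads from the first base point to every point. -/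
def chkT1 (x : ℕ) : Bool := Nat.beq (fw1 11 x 0) x

/-- the second tree leads from the representative of the orbit to every point. -/
def chkT2 (y : ℕ) : Bool := Nat.beq (fw2 8 y (lk13 repP (lk3 subcolP y))) y

/-- the Schreier generators of the second level. -/
def chkL2 (a y : ℕ) : Bool :=
  Bool.rec true (sapp (fun y' => andB (Nat.beq (lk3 subcolP y') 2)
    (inO3 (bw2 8 y' (gen a (fw2 8 y 1))))) (gen a y)) (Nat.beq (lk3 subcolP y) 2)

/-- the Schreier generators of the first level. -/
def chkL1 (s x : ℕ) : Bool :=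
  sapp (fun x' => sapp (fun p2 => andB (Nat.beq (lk3 subcolP p2) 2)
    (inO3 (bw2 8 p2 (bw1 11 x' (app s (fw1 11 x 1))))))
      (bw1 11 x' (app s (fw1 11 x 6)))) (app s x)

end Cfsg.Agent.Helper9.J3
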