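import Mathlib
import Cfsg.Agent.Helper9.J3.Words

set_option autoImplicit false

namespace Cfsg.Agent.Helper9.J3

set_option maxRecDepth 1000000 in
theorem chkL2b_0 : allC (chkL2 1) 0 513 = true := by decide +kernel

set_option maxRecDepth 1000000 in
theorem chkL2b_1 : allC (chkL2 1) 1 513 = true := by decide +kernel

set_option maxRecDepth 1000000 in
theorem chkL2b_2 : allC (chkL2 1) 2 513 = true := by decide +kernel

set_option maxRecDepth 1000000 in
theorem chkL2b_3 : allC (chkL2 1) 3 513 = true := by decide +kernel

set_option maxRecDepth 1000000 in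
theorem chkL2b_4 : allC (chkL2 1) 4 513 = true := by decide +kernel

set_option maxRecDepth 1000000 in
theorem chkL2b_5 : allC (chkL2 1) 5 513 = true := by decide +kernel

set_option maxRecDepth 1000000 in
theorem chkL2b_6 : allC (chkL2 1) 6 513 = true := by decide +kernel

set_option maxRecDepth 1000000 in
theorem chkL2b_7 : allC (chkL2 1) 7 513 = true := by decide +kernel

set_option maxRecDepth 1000000 in
theorem chkL2b_8 : allC (chkL2 1) 8 513 = true := by decide +kernel

set_option maxRecDepth 1000000 in
theorem chkL2b_9 : allC (chkL2 1) 9 513 = true := by decide +kernel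

set_option maxRecDepth 1000000 in
theorem chkL2b_10 : allC (chkL2 1) 10 513 = true := by decide +kernel

set_option maxRecDepth 1000000 in
theorem chkL2b_11 : allC (chkL2 1) 11 513 = true := by decide +kernel

theorem chkL2b_all (v : ℕ) (hv : v < n) : chkL2 1 v = true := by
  refine allC_true (K := 12) (c := 513) ?_ hv
  intro k hk
  interval_cases k
  · exact chkL2b_0
  · exact chkL2b_1
  · exact chkL2b_2
  · exact chkL2b_3
  · exact chkL2b_4
  · exact chkL2b_5
  · exact chkL2b_6
  · exact chkL2b_7
  · exact chkL2b_8
  · exact chkL2b_9
  · exact chkL2b_10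
  · exact chkL2b_11

end Cfsg.Agent.Helper9.J3
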