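import Mathlib
import Cfsg.Agent.Helper9.J3.Words

set_option autoImplicit false

namespace Cfsg.Agent.Helper9.J3

set_option maxRecDepth 1000000 in
theorem chkL2f_0 : allC (chkL2 5) 0 513 = true := by decide +kernel

set_option maxRecDepth 1000000 in
theorem chkL2f_1 : allC (chkL2 5) 1 513 = true := by decide +kernel

set_option maxRecDepth 1000000 in
theorem chkL2f_2 : allC (chkL2 5) 2 513 = true := by decide +kernel

set_option maxRecDepth 1000000 in
theorem chkL2f_3 : allC (chkL2 5) 3 513 = true := by decide +kernel

set_option maxRecDepth 1000000 in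
theorem chkL2f_4 : allC (chkL2 5) 4 513 = true := by decide +kernel

set_option maxRecDepth 1000000 in
theorem chkL2f_5 : allC (chkL2 5) 5 513 = true := by decide +kernel

set_option maxRecDepth 1000000 in
theorem chkL2f_6 : allC (chkL2 5) 6 513 = true := by decide +kernel

set_option maxRecDepth 1000000 in
theorem chkL2f_7 : allC (chkL2 5) 7 513 = true := by decide +kernel

set_option maxRecDepth 1000000 in
theorem chkL2f_8 : allC (chkL2 5) 8 513 = true := by decide +kernel

set_option maxRecDepth 1000000 in
theorem chkL2f_9 : allC (chkL2 5) 9 513 = true := by decide +kernel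

set_option maxRecDepth 1000000 in
theorem chkL2f_10 : allC (chkL2 5) 10 513 = true := by decide +kernel

set_option maxRecDepth 1000000 in
theorem chkL2f_11 : allC (chkL2 5) 11 513 = true := by decide +kernel

theorem chkL2f_all (v : ℕ) (hv : v < n) : chkL2 5 v = true := by
  refine allC_true (K := 12) (c := 513) ?_ hv
  intro k hk
  interval_cases k
  · exact chkL2f_0
  · exact chkL2f_1
  · exact chkL2f_2
  · exact chkL2f_3
  · exact chkL2f_4
  · exact chkL2f_5
  · exact chkL2f_6
  · exact chkL2f_7
  · exact chkL2f_8
  · exact chkL2f_9
  · exact chkL2f_10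
  · exact chkL2f_11

end Cfsg.Agent.Helper9.J3
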