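import Mathlib
import Cfsg.Agent.Helper9.J3.Words

set_option autoImplicit false

namespace Cfsg.Agent.Helper9.J3

set_option maxRecDepth 1000000 in
theorem chkT1_b : allB chkT1 n = true := by decide +kernel

theorem chkT1_all (v : ℕ) (hv : v < n) : chkT1 v = true := allB_true chkT1_b hv

set_option maxRecDepth 1000000 in
theorem chkT2_0 : allC (chkT2) 0 513 = true := by decide +kernel

set_option maxRecDepth 1000000 in
theorem chkT2_1 : allC (chkT2) 1 513 = true := by decide +kernel

set_option maxRecDepth 1000000 in
theorem chkT2_2 : allC (chkT2) 2 513 = true := by decide +kernel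

set_option maxRecDepth 1000000 in
theorem chkT2_3 : allC (chkT2) 3 513 = true := by decide +kernel

set_option maxRecDepth 1000000 in
theorem chkT2_4 : allC (chkT2) 4 513 = true := by decide +kernel

set_option maxRecDepth 1000000 in
theorem chkT2_5 : allC (chkT2) 5 513 = true := by decide +kernel

set_option maxRecDepth 1000000 in
theorem chkT2_6 : allC (chkT2) 6 513 = true := by decide +kernel

set_option maxRecDepth 1000000 in
theorem chkT2_7 : allC (chkT2) 7 513 = true := by decide +kernel

set_option maxRecDepth 1000000 in
theorem chkT2_8 : allC (chkT2) 8 513 = true := by decide +kernel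

set_option maxRecDepth 1000000 in
theorem chkT2_9 : allC (chkT2) 9 513 = true := by decide +kernel

set_option maxRecDepth 1000000 in
theorem chkT2_10 : allC (chkT2) 10 513 = true := by decide +kernel

set_option maxRecDepth 1000000 in
theorem chkT2_11 : allC (chkT2) 11 513 = true := by decide +kernel

theorem chkT2_all (v : ℕ) (hv : v < n) : chkT2 v = true := by
  refine allC_true (K := 12) (c := 513) ?_ hv
  intro k hk
  interval_cases k
  · exact chkT2_0
  · exact chkT2_1
  · exact chkT2_2
  · exact chkT2_3
  · exact chkT2_4
  · exact chkT2_5
  · exact chkT2_6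
  · exact chkT2_7
  · exact chkT2_8
  · exact chkT2_9
  · exact chkT2_10
  · exact chkT2_11

set_option maxRecDepth 1000000 in
/-- the generators of the second level fix the first base point. -/
theorem gen_zero_b : allB (fun a => Nat.beq (gen a 0) 0) 8 = true := by decide +kernel

set_option maxRecDepth 1000000 in
/-- the last three generators fix the second base point and move the third in its orbit. -/
theorem gen_three_b : andB (andB (Nat.beq (gen 3 6) 6) (andB (Nat.beq (gen 4 6) 6)
    (Nat.beq (gen 5 6) 6))) (andB (Nat.beq (gen 3 1) 5458) (andB (Nat.beq (gen 4 1) 3330)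
    (Nat.beq (gen 5 1) 2750))) = true := by decide +kernel

set_option maxRecDepth 1000000 in
/-- the orbit of the third base point is closed under the last three generators. -/
theorem o3_closed_b : allB (fun a => andB (inO3 (gen (Nat.add a 3) 1))
    (andB (inO3 (gen (Nat.add a 3) 5458)) (andB (inO3 (gen (Nat.add a 3) 3330))
    (inO3 (gen (Nat.add a 3) 2750))))) 3 = true := by decide +kernel

theorem gw6 : lk48 gwP 6 = 0 := by decide +kernel

theorem gw7 : lk48 gwP 7 = 0 := by decide +kernel

theorem tree2_six : lk17 tree2 6 = 0 := by decide +kernel

theorem subcol_six : lk3 subcolP 6 = 2 := by decide +kernel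

theorem rep_two : lk13 repP 2 = 6 := by decide +kernel

end Cfsg.Agent.Helper9.J3
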