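import Mathlib
import Cfsg.Agent.Helper9.J3.Tabs
import Cfsg.Agent.Helper9.J3.DataG

set_option autoImplicit false

/-!
An invariant graph of valency 85 on the 6156 points, its automorphisms, and the checks that the
kernel makes on it.
-/

namespace Cfsg.Agent.Helper9.J3

open Cfsg.Agent.Helper9.PChain

/-- the leaf at an index, read from the most significant of `d` bits. -/
noncomputable def BT.getF (t : BT) : ℕ → ℕ → ℕ :=
  BT.rec (motive := fun _ => ℕ → ℕ → ℕ) (fun a _ _ => a)
    (fun _ _ ihl ihr d i => Bool.rec (ihl (Nat.pred d) i) (ihr (Nat.pred d) i)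
      (Nat.beq (Nat.land (Nat.shiftRight i (Nat.pred d)) 1) 1)) t

/-- the packed neighbours of a vertex. -/
noncomputable def blkF (v : ℕ) : ℕ := BT.getF nbrT 13 v

/-- the neighbours of a vertex. -/
noncomputable def nb (v j : ℕ) : ℕ := lk13 (blkF v) j

/-- the list of the neighbours of a vertex. -/
noncomputable def blk (v : ℕ) : List ℕ := (List.range 85).map (nb v)

/-- the neighbours in a block are increasing and are vertices. -/
def blkChk (B : ℕ) : Bool :=
  andB (allB (fun j => Nat.ble (Nat.succ (lk13 B j)) (lk13 B (Nat.succ j))) 84)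
    (Nat.ble (lk13 B 84) 6155)

/-- a letter preserves the graph, at a vertex. -/
noncomputable def autAt (T v : ℕ) : Bool :=
  Nat.beq (maskF (fun j => sapp (fun y => lk13 T y) (lk13 (blkF v) j)) 85)
    (maskF (fun j => lk13 (blkF (lk13 T v)) j) 85)

/-- an entry of a table of entries of 32 bits. -/
def lk32 (T i : ℕ) : ℕ := lkF 32 4294967295 T i

/-- the next colour of a vertex. -/
noncomputable def nextCol (C v : ℕ) : ℕ :=
  Nat.mod (Nat.add (Nat.mul (lk32 C v) 1000003)
    (sumF (fun j => sapp (fun y => Nat.pow (lk32 C y) 2) (lk13 (blkF v) j)) 85)) 2147483647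

/-- the check of one round of refinement, at a vertex. -/
noncomputable def roundAt (C C' v : ℕ) : Bool := Nat.beq (lk32 C' v) (nextCol C v)

/-- a natural number as a vertex. -/
def toF (x : ℕ) : Fin n := ⟨x % n, Nat.mod_lt _ (by norm_num)⟩

theorem toF_val (v : Fin n) : toF v.val = v := Fin.ext (Nat.mod_eq_of_lt v.isLt)

theorem toF_of_lt {x : ℕ} (hx : x < n) : (toF x).val = x := Nat.mod_eq_of_lt hx

set_option maxRecDepth 1000000 in
theorem blk_ok_b : allB (fun v => blkChk (blkF v)) n = true := by decide +kernel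

theorem nb_step {v : ℕ} (hv : v < n) {j : ℕ} (hj : j < 84) : nb v j < nb v (j + 1) := by
  have h := (andB_true (allB_true blk_ok_b hv)).1
  exact Nat.lt_of_succ_le (Nat.le_of_ble_eq_true (allB_true h hj))

theorem nb_last {v : ℕ} (hv : v < n) : nb v 84 < n := by
  have h := (andB_true (allB_true blk_ok_b hv)).2
  exact Nat.lt_succ_of_le (Nat.le_of_ble_eq_true h)

theorem nb_mono {v : ℕ} (hv : v < n) : ∀ j i : ℕ, i < j → j < 85 → nb v i < nb v j := by
  intro j
  induction j with
  | zero => intro i hi; omega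
  | succ j ih =>
    intro i hi hj
    have hstep : nb v j < nb v (j + 1) := nb_step hv (by omega)
    rcases Nat.lt_succ_iff_lt_or_eq.1 hi with hlt | heq
    · exact lt_trans (ih i hlt (by omega)) hstep
    · rw [heq]
      exact hstep

theorem nb_lt {v : ℕ} (hv : v < n) {j : ℕ} (hj : j < 85) : nb v j < n := by
  rcases Nat.lt_succ_iff_lt_or_eq.1 hj with h | h
  · exact lt_trans (nb_mono hv 84 j h (by norm_num)) (nb_last hv)
  · rw [h]
    exact nb_last hv

theorem nb_inj {v : ℕ} (hv : v < n) {i j : ℕ} (hi : i < 85) (hj : j < 85)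
    (h : nb v i = nb v j) : i = j := by
  rcases Nat.lt_trichotomy i j with h1 | h1 | h1
  · exact absurd h (ne_of_lt (nb_mono hv j i h1 hj))
  · exact h1
  · exact absurd h.symm (ne_of_lt (nb_mono hv i j h1 hi))

theorem mem_blk {v x : ℕ} : x ∈ blk v ↔ ∃ j, j < 85 ∧ nb v j = x := by
  unfold blk
  rw [List.mem_map]
  constructor
  · rintro ⟨j, hj, h⟩
    exact ⟨j, List.mem_range.1 hj, h⟩
  · rintro ⟨j, hj, h⟩
    exact ⟨j, List.mem_range.2 hj, h⟩

theorem blk_lt {v x : ℕ} (hv : v < n) (hx : x ∈ blk v) : x < n := by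
  obtain ⟨j, hj, rfl⟩ := mem_blk.1 hx
  exact nb_lt hv hj

theorem blk_nodup {v : ℕ} (hv : v < n) : (blk v).Nodup := by
  unfold blk
  apply List.Nodup.map_on _ List.nodup_range
  intro i hi j hj h
  exact nb_inj hv (List.mem_range.1 hi) (List.mem_range.1 hj) h

/-- the action of a permutation on natural numbers below `n`. -/
def actN (σ : Equiv.Perm (Fin n)) (x : ℕ) : ℕ := (σ (toF x)).val

/-- the permutation preserves the graph. -/
def IsAut (σ : Equiv.Perm (Fin n)) : Prop :=
  ∀ v : Fin n, (blk (σ v).val).Perm ((blk v.val).map (actN σ))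

theorem isAut_one : IsAut 1 := by
  intro v
  have : (blk v.val).map (actN 1) = blk v.val := by
    conv_rhs => rw [← List.map_id (blk v.val)]
    apply List.map_congr_left
    intro x hx
    exact toF_of_lt (blk_lt v.isLt hx)
  rw [this]
  exact List.Perm.refl _

theorem isAut_mul {σ τ : Equiv.Perm (Fin n)} (hσ : IsAut σ) (hτ : IsAut τ) : IsAut (σ * τ) := by
  intro v
  have h1 := hσ (τ v)
  have h2 := (hτ v).map (actN σ)
  have h3 : ((blk v.val).map (actN τ)).map (actN σ) = (blk v.val).map (actN (σ * τ)) := by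
    rw [List.map_map]
    apply List.map_congr_left
    intro x _
    change (σ (toF (τ (toF x)).val)).val = ((σ * τ) (toF x)).val
    rw [toF_val]
    rfl
  rw [h3] at h2
  exact h1.trans h2

theorem isAut_inv {σ : Equiv.Perm (Fin n)} (hσ : IsAut σ) : IsAut σ⁻¹ := by
  intro v
  have h1 := (hσ (σ⁻¹ v)).map (actN σ⁻¹)
  have e : σ (σ⁻¹ v) = v := σ.apply_symm_apply v
  rw [e] at h1
  have h3 : ((blk (σ⁻¹ v).val).map (actN σ)).map (actN σ⁻¹) = blk (σ⁻¹ v).val := by
    rw [List.map_map]
    conv_rhs => rw [← List.map_id (blk (σ⁻¹ v).val)]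
    apply List.map_congr_left
    intro x hx
    change (σ⁻¹ (toF (σ (toF x)).val)).val = x
    rw [toF_val]
    have : σ⁻¹ (σ (toF x)) = toF x := σ.symm_apply_apply _
    rw [this]
    exact toF_of_lt (blk_lt (σ⁻¹ v).isLt hx)
  rw [h3] at h1
  exact h1.symm

theorem isAut_list_prod (L : List (Equiv.Perm (Fin n))) (h : ∀ σ ∈ L, IsAut σ) :
    IsAut L.prod := by
  induction L with
  | nil => exact isAut_one
  | cons a L ih =>
    rw [List.prod_cons]
    exact isAut_mul (h a List.mem_cons_self) (ih (fun σ hσ => h σ (List.mem_cons_of_mem _ hσ)))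

/-- a letter whose table passes the check preserves the graph. -/
theorem isAut_of_chk (l : ℕ) (hl : l < 4) (h : ∀ v, v < n → autAt (sel l) v = true) :
    IsAut (P l) := by
  intro v
  have h2 : maskF (fun j => tabF l (nb v.val j)) 85 = maskF (nb (tabF l v.val)) 85 := by
    have h' := Nat.eq_of_beq_eq_true (h v.val v.isLt)
    simp only [sapp_eq] at h'
    exact h'
  have hmap : (blk v.val).map (actN (P l)) = (blk v.val).map (tabF l) := by
    apply List.map_congr_left
    intro x hx
    change ((P l) (toF x)).val = tabF l x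
    rw [P_apply, toF_of_lt (blk_lt v.isLt hx), tab_of_lt hl]
  rw [hmap, P_apply, tab_of_lt hl]
  have hnd1 : (blk (tabF l v.val)).Nodup := blk_nodup (tab_ok l v.val hl v.isLt).1
  have hnd2 : ((blk v.val).map (tabF l)).Nodup := by
    apply List.Nodup.map_on _ (blk_nodup v.isLt)
    intro x hx y hy hxy
    have hx' := blk_lt v.isLt hx
    have hy' := blk_lt v.isLt hy
    rw [← (tab_ok l x hl hx').2, ← (tab_ok l y hl hy').2, hxy]
  rw [List.perm_ext_iff_of_nodup hnd1 hnd2]
  intro a
  rw [mem_blk, List.mem_map]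
  constructor
  · intro ha
    obtain ⟨j, hj, hja⟩ := (maskF_eq_iff h2 a).2 ha
    exact ⟨nb v.val j, mem_blk.2 ⟨j, hj, rfl⟩, hja⟩
  · rintro ⟨x, hx, hxa⟩
    obtain ⟨j, hj, rfl⟩ := mem_blk.1 hx
    exact (maskF_eq_iff h2 a).1 ⟨j, hj, hxa⟩

/-- one round of refinement: what is preserved stays preserved. -/
theorem round_sound (C C' : ℕ) (h : ∀ v, v < n → roundAt C C' v = true) (σ : Equiv.Perm (Fin n))
    (hσ : IsAut σ) (hc : ∀ v : Fin n, lk32 C (σ v).val = lk32 C v.val) :
    ∀ v : Fin n, lk32 C' (σ v).val = lk32 C' v.val := by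
  intro v
  have h1 : lk32 C' v.val = nextCol C v.val := Nat.eq_of_beq_eq_true (h v.val v.isLt)
  have h2 : lk32 C' (σ v).val = nextCol C (σ v).val :=
    Nat.eq_of_beq_eq_true (h (σ v).val (σ v).isLt)
  rw [h1, h2]
  have key : ∀ w : ℕ,
      sumF (fun j => sapp (fun y => Nat.pow (lk32 C y) 2) (lk13 (blkF w) j)) 85 =
      ((blk w).map (fun x => (lk32 C x) ^ 2)).sum := by
    intro w
    simp only [sapp_eq]
    rw [sumF_eq]
    unfold blk
    rw [List.map_map]
    rfl
  unfold nextCol
  rw [key, key, hc v]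
  have h3 := ((hσ v).map (fun x => (lk32 C x) ^ 2)).sum_eq
  rw [h3, List.map_map]
  have h4 : (blk v.val).map ((fun x => (lk32 C x) ^ 2) ∘ actN σ) =
      (blk v.val).map (fun x => (lk32 C x) ^ 2) := by
    apply List.map_congr_left
    intro x hx
    change (lk32 C (σ (toF x)).val) ^ 2 = (lk32 C x) ^ 2
    rw [hc (toF x), toF_of_lt (blk_lt v.isLt hx)]
  rw [h4]

end Cfsg.Agent.Helper9.J3
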