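import Mathlib
import Cfsg.Agent.Helper9.J3.Graph

set_option autoImplicit false

namespace Cfsg.Agent.Helper9.J3

set_option maxRecDepth 1000000 in
theorem aut0_0 : allC (autAt tab0) 0 513 = true := by decide +kernel

set_option maxRecDepth 1000000 in
theorem aut0_1 : allC (autAt tab0) 1 513 = true := by decide +kernel

set_option maxRecDepth 1000000 in
theorem aut0_2 : allC (autAt tab0) 2 513 = true := by decide +kernel

set_option maxRecDepth 1000000 in
theorem aut0_3 : allC (autAt tab0) 3 513 = true := by decide +kernel

set_option maxRecDepth 1000000 in
theorem aut0_4 : allC (autAt tab0) 4 513 = true := by decide +kernel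

set_option maxRecDepth 1000000 in
theorem aut0_5 : allC (autAt tab0) 5 513 = true := by decide +kernel

set_option maxRecDepth 1000000 in
theorem aut0_6 : allC (autAt tab0) 6 513 = true := by decide +kernel

set_option maxRecDepth 1000000 in
theorem aut0_7 : allC (autAt tab0) 7 513 = true := by decide +kernel

set_option maxRecDepth 1000000 in
theorem aut0_8 : allC (autAt tab0) 8 513 = true := by decide +kernel

set_option maxRecDepth 1000000 in
theorem aut0_9 : allC (autAt tab0) 9 513 = true := by decide +kernel

set_option maxRecDepth 1000000 in
theorem aut0_10 : allC (autAt tab0) 10 513 = true := by decide +kernel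

set_option maxRecDepth 1000000 in
theorem aut0_11 : allC (autAt tab0) 11 513 = true := by decide +kernel

theorem aut0_all (v : ℕ) (hv : v < n) : autAt tab0 v = true := by
  refine allC_true (K := 12) (c := 513) ?_ hv
  intro k hk
  interval_cases k
  · exact aut0_0
  · exact aut0_1
  · exact aut0_2
  · exact aut0_3
  · exact aut0_4
  · exact aut0_5
  · exact aut0_6
  · exact aut0_7
  · exact aut0_8
  · exact aut0_9
  · exact aut0_10
  · exact aut0_11

end Cfsg.Agent.Helper9.J3
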