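import Mathlib
import Cfsg.Agent.Helper9.J3.Graph

set_option autoImplicit false

namespace Cfsg.Agent.Helper9.J3

set_option maxRecDepth 1000000 in
theorem aut1_0 : allC (autAt tab1) 0 513 = true := by decide +kernel

set_option maxRecDepth 1000000 in
theorem aut1_1 : allC (autAt tab1) 1 513 = true := by decide +kernel

set_option maxRecDepth 1000000 in
theorem aut1_2 : allC (autAt tab1) 2 513 = true := by decide +kernel

set_option maxRecDepth 1000000 in
theorem aut1_3 : allC (autAt tab1) 3 513 = true := by decide +kernel

set_option maxRecDepth 1000000 in
theorem aut1_4 : allC (autAt tab1) 4 513 = true := by decide +kernel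

set_option maxRecDepth 1000000 in
theorem aut1_5 : allC (autAt tab1) 5 513 = true := by decide +kernel

set_option maxRecDepth 1000000 in
theorem aut1_6 : allC (autAt tab1) 6 513 = true := by decide +kernel

set_option maxRecDepth 1000000 in
theorem aut1_7 : allC (autAt tab1) 7 513 = true := by decide +kernel

set_option maxRecDepth 1000000 in
theorem aut1_8 : allC (autAt tab1) 8 513 = true := by decide +kernel

set_option maxRecDepth 1000000 in
theorem aut1_9 : allC (autAt tab1) 9 513 = true := by decide +kernel

set_option maxRecDepth 1000000 in
theorem aut1_10 : allC (autAt tab1) 10 513 = true := by decide +kernel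

set_option maxRecDepth 1000000 in
theorem aut1_11 : allC (autAt tab1) 11 513 = true := by decide +kernel

theorem aut1_all (v : ℕ) (hv : v < n) : autAt tab1 v = true := by
  refine allC_true (K := 12) (c := 513) ?_ hv
  intro k hk
  interval_cases k
  · exact aut1_0
  · exact aut1_1
  · exact aut1_2
  · exact aut1_3
  · exact aut1_4
  · exact aut1_5
  · exact aut1_6
  · exact aut1_7
  · exact aut1_8
  · exact aut1_9
  · exact aut1_10
  · exact aut1_11

end Cfsg.Agent.Helper9.J3
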