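import Mathlib
import Cfsg.Agent.Helper9.J3.Graph

set_option autoImplicit false

namespace Cfsg.Agent.Helper9.J3

/-- the first colouring: the three base points. -/
def col0P : ℕ := 12554203470773361527671578846415332832204710888940953927681

set_option maxRecDepth 1000000 in
theorem round1_0 : allC (roundAt col0P col1P) 0 513 = true := by decide +kernel

set_option maxRecDepth 1000000 in
theorem round1_1 : allC (roundAt col0P col1P) 1 513 = true := by decide +kernel

set_option maxRecDepth 1000000 in
theorem round1_2 : allC (roundAt col0P col1P) 2 513 = true := by decide +kernel

set_option maxRecDepth 1000000 in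
theorem round1_3 : allC (roundAt col0P col1P) 3 513 = true := by decide +kernel

set_option maxRecDepth 1000000 in
theorem round1_4 : allC (roundAt col0P col1P) 4 513 = true := by decide +kernel

set_option maxRecDepth 1000000 in
theorem round1_5 : allC (roundAt col0P col1P) 5 513 = true := by decide +kernel

set_option maxRecDepth 1000000 in
theorem round1_6 : allC (roundAt col0P col1P) 6 513 = true := by decide +kernel

set_option maxRecDepth 1000000 in
theorem round1_7 : allC (roundAt col0P col1P) 7 513 = true := by decide +kernel

set_option maxRecDepth 1000000 in
theorem round1_8 : allC (roundAt col0P col1P) 8 513 = true := by decide +kernel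

set_option maxRecDepth 1000000 in
theorem round1_9 : allC (roundAt col0P col1P) 9 513 = true := by decide +kernel

set_option maxRecDepth 1000000 in
theorem round1_10 : allC (roundAt col0P col1P) 10 513 = true := by decide +kernel

set_option maxRecDepth 1000000 in
theorem round1_11 : allC (roundAt col0P col1P) 11 513 = true := by decide +kernel

theorem round1_all (v : ℕ) (hv : v < n) : roundAt col0P col1P v = true := by
  refine allC_true (K := 12) (c := 513) ?_ hv
  intro k hk
  interval_cases k
  · exact round1_0
  · exact round1_1
  · exact round1_2
  · exact round1_3
  · exact round1_4
  · exact round1_5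
  · exact round1_6
  · exact round1_7
  · exact round1_8
  · exact round1_9
  · exact round1_10
  · exact round1_11

end Cfsg.Agent.Helper9.J3
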