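import Mathlib
import Cfsg.Agent.Helper9.J3.Graph

set_option autoImplicit false

namespace Cfsg.Agent.Helper9.J3

set_option maxRecDepth 1000000 in
theorem round3_0 : allC (roundAt col2P col3P) 0 513 = true := by decide +kernel

set_option maxRecDepth 1000000 in
theorem round3_1 : allC (roundAt col2P col3P) 1 513 = true := by decide +kernel

set_option maxRecDepth 1000000 in
theorem round3_2 : allC (roundAt col2P col3P) 2 513 = true := by decide +kernel

set_option maxRecDepth 1000000 in
theorem round3_3 : allC (roundAt col2P col3P) 3 513 = true := by decide +kernel

set_option maxRecDepth 1000000 in
theorem round3_4 : allC (roundAt col2P col3P) 4 513 = true := by decide +kernel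

set_option maxRecDepth 1000000 in
theorem round3_5 : allC (roundAt col2P col3P) 5 513 = true := by decide +kernel

set_option maxRecDepth 1000000 in
theorem round3_6 : allC (roundAt col2P col3P) 6 513 = true := by decide +kernel

set_option maxRecDepth 1000000 in
theorem round3_7 : allC (roundAt col2P col3P) 7 513 = true := by decide +kernel

set_option maxRecDepth 1000000 in
theorem round3_8 : allC (roundAt col2P col3P) 8 513 = true := by decide +kernel

set_option maxRecDepth 1000000 in
theorem round3_9 : allC (roundAt col2P col3P) 9 513 = true := by decide +kernel

set_option maxRecDepth 1000000 in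
theorem round3_10 : allC (roundAt col2P col3P) 10 513 = true := by decide +kernel

set_option maxRecDepth 1000000 in
theorem round3_11 : allC (roundAt col2P col3P) 11 513 = true := by decide +kernel

theorem round3_all (v : ℕ) (hv : v < n) : roundAt col2P col3P v = true := by
  refine allC_true (K := 12) (c := 513) ?_ hv
  intro k hk
  interval_cases k
  · exact round3_0
  · exact round3_1
  · exact round3_2
  · exact round3_3
  · exact round3_4
  · exact round3_5
  · exact round3_6
  · exact round3_7
  · exact round3_8
  · exact round3_9
  · exact round3_10
  · exact round3_11

end Cfsg.Agent.Helper9.J3
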