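import Mathlib
import Cfsg.Agent.Helper9.J3.Aut0
import Cfsg.Agent.Helper9.J3.Aut1
import Cfsg.Agent.Helper9.J3.Round1
import Cfsg.Agent.Helper9.J3.Round2
import Cfsg.Agent.Helper9.J3.Round3
import Cfsg.Agent.Helper9.J3.Round4

set_option autoImplicit false

/-!
The letters preserve the graph, and a permutation preserving it and fixing the three base points
is the identity (by colour refinement).
-/

namespace Cfsg.Agent.Helper9.J3

open Cfsg.Agent.Helper9.PChain

theorem P_isAut (l : ℕ) : IsAut (P l) := by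
  have h0 : IsAut (P 0) := isAut_of_chk 0 (by norm_num) aut0_all
  have h1 : IsAut (P 1) := isAut_of_chk 1 (by norm_num) aut1_all
  by_cases hl : l < 4
  · interval_cases l
    · exact h0
    · exact h1
    · have : P 2 = (P 0)⁻¹ := P_linv 0 (by norm_num)
      rw [this]
      exact isAut_inv h0
    · have : P 3 = (P 1)⁻¹ := P_linv 1 (by norm_num)
      rw [this]
      exact isAut_inv h1
  · unfold P
    rw [dif_neg hl]
    exact isAut_one

theorem permW_isAut (w : List ℕ) : IsAut (permW w) := by
  apply isAut_list_prod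
  intro σ hσ
  obtain ⟨l, -, rfl⟩ := List.mem_map.1 hσ
  exact P_isAut l

/-- the base points. -/
def b2 : ℕ := 6
def b3 : ℕ := 1

/-- the disjunction. -/
def orC (a b : Bool) : Bool := Bool.rec b true a

set_option maxRecDepth 1000000 in
theorem col0_b : allB (fun v => Bool.rec (Nat.beq (lk32 col0P v) 0) true
    (orC (Nat.beq v 0) (orC (Nat.beq v 1) (Nat.beq v 6)))) n = true := by decide +kernel

theorem col0_zero {v : ℕ} (hv : v < n) (h0 : v ≠ 0) (h1 : v ≠ 1) (h6 : v ≠ 6) :
    lk32 col0P v = 0 := by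
  have h := allB_true col0_b hv
  have e0 : Nat.beq v 0 = false := by
    cases hb : Nat.beq v 0
    · rfl
    · exact absurd (Nat.eq_of_beq_eq_true hb) h0
  have e1 : Nat.beq v 1 = false := by
    cases hb : Nat.beq v 1
    · rfl
    · exact absurd (Nat.eq_of_beq_eq_true hb) h1
  have e6 : Nat.beq v 6 = false := by
    cases hb : Nat.beq v 6
    · rfl
    · exact absurd (Nat.eq_of_beq_eq_true hb) h6
  rw [e0, e1, e6] at h
  exact Nat.eq_of_beq_eq_true h

set_option maxRecDepth 1000000 in
theorem ord_ok_b : andB (allB (fun v => andB (Nat.ble (lk13 pos4P v) 6155)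
      (Nat.beq (lk13 ord4P (lk13 pos4P v)) v)) n)
    (allB (fun i => Nat.ble (Nat.succ (lk32 col4P (lk13 ord4P i)))
      (lk32 col4P (lk13 ord4P (Nat.succ i)))) 6155) = true := by
  decide +kernel

theorem col4_ord_mono : ∀ j i : ℕ, i < j → j < n →
    lk32 col4P (lk13 ord4P i) < lk32 col4P (lk13 ord4P j) := by
  intro j
  induction j with
  | zero => intro i hi; omega
  | succ j ih =>
    intro i hi hj
    have hstep : lk32 col4P (lk13 ord4P j) < lk32 col4P (lk13 ord4P (j + 1)) :=
      Nat.lt_of_succ_le (Nat.le_of_ble_eq_true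
        (allB_true (andB_true ord_ok_b).2 (show j < 6155 by unfold n at hj; omega)))
    rcases Nat.lt_succ_iff_lt_or_eq.1 hi with hlt | heq
    · exact lt_trans (ih i hlt (by omega)) hstep
    · rw [heq]
      exact hstep

theorem col4_inj {v w : ℕ} (hv : v < n) (hw : w < n) (h : lk32 col4P v = lk32 col4P w) :
    v = w := by
  have hv' := andB_true (allB_true (andB_true ord_ok_b).1 hv)
  have hw' := andB_true (allB_true (andB_true ord_ok_b).1 hw)
  have hv1 : lk13 pos4P v < n := Nat.lt_succ_of_le (Nat.le_of_ble_eq_true hv'.1)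
  have hw1 : lk13 pos4P w < n := Nat.lt_succ_of_le (Nat.le_of_ble_eq_true hw'.1)
  have hv2 : lk13 ord4P (lk13 pos4P v) = v := Nat.eq_of_beq_eq_true hv'.2
  have hw2 : lk13 ord4P (lk13 pos4P w) = w := Nat.eq_of_beq_eq_true hw'.2
  rcases Nat.lt_trichotomy (lk13 pos4P v) (lk13 pos4P w) with hlt | heq | hgt
  · have := col4_ord_mono (lk13 pos4P w) (lk13 pos4P v) hlt hw1
    rw [hv2, hw2, h] at this
    exact absurd this (lt_irrefl _)
  · rw [← hv2, ← hw2, heq]
  · have := col4_ord_mono (lk13 pos4P v) (lk13 pos4P w) hgt hv1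
    rw [hv2, hw2, h] at this
    exact absurd this (lt_irrefl _)

/-- rigidity: a permutation preserving the graph and fixing the three base points is trivial. -/
theorem rigid (σ : Equiv.Perm (Fin n)) (hσ : IsAut σ) (h1 : σ (toF 0) = toF 0)
    (h2 : σ (toF b2) = toF b2) (h3 : σ (toF b3) = toF b3) : σ = 1 := by
  have hc0 : ∀ v : Fin n, lk32 col0P (σ v).val = lk32 col0P v.val := by
    intro v
    by_cases hv1 : v = toF 0
    · rw [hv1, h1]
    by_cases hv2 : v = toF b2
    · rw [hv2, h2]
    by_cases hv3 : v = toF b3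
    · rw [hv3, h3]
    have g1 : σ v ≠ toF 0 := fun h => hv1 (σ.injective (h.trans h1.symm))
    have g2 : σ v ≠ toF b2 := fun h => hv2 (σ.injective (h.trans h2.symm))
    have g3 : σ v ≠ toF b3 := fun h => hv3 (σ.injective (h.trans h3.symm))
    have k : ∀ u : Fin n, u ≠ toF 0 → u ≠ toF b2 → u ≠ toF b3 → lk32 col0P u.val = 0 := by
      intro u u1 u2 u3
      apply col0_zero u.isLt
      · exact fun h => u1 (Fin.ext h)
      · exact fun h => u3 (Fin.ext h)
      · exact fun h => u2 (Fin.ext h)
    rw [k v hv1 hv2 hv3, k (σ v) g1 g2 g3]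
  have hc1 := round_sound col0P col1P round1_all σ hσ hc0
  have hc2 := round_sound col1P col2P round2_all σ hσ hc1
  have hc3 := round_sound col2P col3P round3_all σ hσ hc2
  have hc4 := round_sound col3P col4P round4_all σ hσ hc3
  ext v
  exact congrArg Fin.val (Fin.ext (col4_inj (σ v).isLt v.isLt (hc4 v)) : σ v = v)

end Cfsg.Agent.Helper9.J3
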