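import Mathlib

set_option autoImplicit false

/-!
A bound for the order of a group generated by a set, from a set of coset representatives closed
under the generators modulo a subgroup.
-/

namespace Cfsg.Agent.Helper9.J3

theorem card_closure_le {α : Type*} [Group α] [Finite α] {ι : Type*} (A : Set α)
    (K : Subgroup α) (I : Finset ι) (U : ι → α) (h1 : ∃ i ∈ I, U i ∈ K)
    (h2 : ∀ a ∈ A, ∀ i ∈ I, ∃ j ∈ I, (U j)⁻¹ * a * U i ∈ K) :
    Nat.card (Subgroup.closure A) ≤ I.card * Nat.card K := by
  classical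
  let M : Set α := {g | ∃ i ∈ I, (U i)⁻¹ * g ∈ K}
  have hM1 : (1 : α) ∈ M := by
    obtain ⟨i, hi, hiK⟩ := h1
    refine ⟨i, hi, ?_⟩
    rw [mul_one]
    exact K.inv_mem hiK
  have hMA : ∀ a ∈ A, ∀ g ∈ M, a * g ∈ M := by
    rintro a ha g ⟨i, hi, hg⟩
    obtain ⟨j, hj, hjK⟩ := h2 a ha i hi
    refine ⟨j, hj, ?_⟩
    have : (U j)⁻¹ * (a * g) = ((U j)⁻¹ * a * U i) * ((U i)⁻¹ * g) := by group
    rw [this]
    exact K.mul_mem hjK hg
  have hcl : ∀ x ∈ Subgroup.closure A, ∀ g ∈ M, x * g ∈ M := by
    intro x hx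
    induction hx using Subgroup.closure_induction with
    | mem a ha => exact hMA a ha
    | one => intro g hg; rwa [one_mul]
    | mul x y _ _ ihx ihy =>
      intro g hg
      rw [mul_assoc]
      exact ihx _ (ihy g hg)
    | inv x _ ihx =>
      intro g hg
      have himg : (fun g => x * g) '' M = M := by
        apply Set.eq_of_subset_of_ncard_le
        · rintro _ ⟨g, hg, rfl⟩
          exact ihx g hg
        · rw [Set.ncard_image_of_injective _ (mul_right_injective x)]
        · exact Set.toFinite M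
      have hg2 : g ∈ (fun g => x * g) '' M := by
        rw [himg]
        exact hg
      obtain ⟨g', hg', hgg'⟩ := hg2
      have : x⁻¹ * g = g' := by
        rw [← hgg']
        simp
      rw [this]
      exact hg'
  have hsub : (Subgroup.closure A : Set α) ⊆ M := by
    intro x hx
    have := hcl x hx 1 hM1
    rwa [mul_one] at this
  let f : I × K → α := fun p => U p.1.1 * p.2.1
  have hMf : M ⊆ Set.range f := by
    rintro g ⟨i, hi, hg⟩
    refine ⟨(⟨i, hi⟩, ⟨(U i)⁻¹ * g, hg⟩), ?_⟩
    change U i * ((U i)⁻¹ * g) = g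
    simp
  calc Nat.card (Subgroup.closure A) = (Subgroup.closure A : Set α).ncard := rfl
    _ ≤ (Set.range f).ncard := Set.ncard_le_ncard (hsub.trans hMf) (Set.toFinite _)
    _ ≤ Nat.card (I × K) := by
        rw [← Set.image_univ, ← Set.ncard_univ]
        exact Set.ncard_image_le (Set.toFinite _)
    _ = I.card * Nat.card K := by
        rw [Nat.card_prod, Nat.card_eq_fintype_card, Fintype.card_coe]

end Cfsg.Agent.Helper9.J3
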