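import Mathlib
import Cfsg.Agent.Helper9.J3.Rigid
import Cfsg.Agent.Helper9.J3.Step
import Cfsg.Agent.Helper9.J3.ChkT
import Cfsg.Agent.Helper9.J3.ChkL1a
import Cfsg.Agent.Helper9.J3.ChkL1b
import Cfsg.Agent.Helper9.J3.ChkL2a
import Cfsg.Agent.Helper9.J3.ChkL2b
import Cfsg.Agent.Helper9.J3.ChkL2c
import Cfsg.Agent.Helper9.J3.ChkL2d
import Cfsg.Agent.Helper9.J3.ChkL2e
import Cfsg.Agent.Helper9.J3.ChkL2f

set_option autoImplicit false

/-!
The three levels of the stabiliser chain of `G`, and its order.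
-/

namespace Cfsg.Agent.Helper9.J3

open Cfsg.Agent.Helper9.PChain

theorem inv_app {σ : Equiv.Perm (Fin n)} {x y : Fin n} (h : σ x = y) : σ⁻¹ y = x := by
  rw [← h]
  exact σ.symm_apply_apply x

theorem toF_zero_val : (toF 0).val = 0 := rfl

/-! ### The automorphisms -/

theorem permP_isAut (w len : ℕ) : IsAut (permP w len) := by
  induction len with
  | zero => exact isAut_one
  | succ len ih => exact isAut_mul (P_isAut _) ih

theorem genP_isAut (a : ℕ) : IsAut (genP a) := permP_isAut _ _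

theorem T1_isAut (f x : ℕ) : IsAut (T1 f x) := by
  induction f generalizing x with
  | zero => exact isAut_one
  | succ f ih =>
    unfold T1
    split
    · exact isAut_one
    · exact isAut_mul (P_isAut _) (ih _)

theorem U2_isAut (f y : ℕ) : IsAut (U2 f y) := by
  induction f generalizing y with
  | zero => exact isAut_one
  | succ f ih =>
    unfold U2
    split
    · exact isAut_one
    · exact isAut_mul (genP_isAut _) (ih _)

theorem U2_mem (f y : ℕ) : U2 f y ∈ G := by
  induction f generalizing y with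
  | zero => exact G.one_mem
  | succ f ih =>
    unfold U2
    split
    · exact G.one_mem
    · exact G.mul_mem (genP_mem _) (ih _)

/-! ### The generators of the second level -/

theorem land7_lt (e : ℕ) : Nat.land e 7 < 8 :=
  Nat.lt_of_le_of_lt (Nat.and_le_right (n := e) (m := 7)) (by norm_num)

theorem genP_zero {a : ℕ} (ha : a < 8) : genP a (toF 0) = toF 0 := by
  apply Fin.ext
  rw [genP_apply]
  exact Nat.eq_of_beq_eq_true (allB_true gen_zero_b ha)

theorem U2_zero (f y : ℕ) : U2 f y (toF 0) = toF 0 := by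
  induction f generalizing y with
  | zero => rfl
  | succ f ih =>
    unfold U2
    split
    · rfl
    · change genP _ (U2 f _ (toF 0)) = toF 0
      rw [ih, genP_zero (land7_lt _)]

/-- the generators of the second level. -/
def A2 : Set (Equiv.Perm (Fin n)) := Set.range (fun a : Fin 8 => genP a.val)

/-- the group of the second level. -/
def K2 : Subgroup (Equiv.Perm (Fin n)) := Subgroup.closure A2

theorem genP_mem_K2 {a : ℕ} (ha : a < 8) : genP a ∈ K2 :=
  Subgroup.subset_closure ⟨⟨a, ha⟩, rfl⟩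

theorem U2_mem_K2 (f y : ℕ) : U2 f y ∈ K2 := by
  induction f generalizing y with
  | zero => exact K2.one_mem
  | succ f ih =>
    unfold U2
    split
    · exact K2.one_mem
    · exact K2.mul_mem (genP_mem_K2 (land7_lt _)) (ih _)

theorem genP_six : genP 6 = 1 := by
  unfold genP
  rw [gw6]
  rfl

theorem genP_seven : genP 7 = 1 := by
  unfold genP
  rw [gw7]
  rfl

/-! ### The third level -/

/-- the orbit of the third base point. -/
def z3 (j : ℕ) : ℕ :=
  match j with
  | 0 => 1
  | 1 => 5458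
  | 2 => 3330
  | _ => 2750

theorem z3_lt (j : ℕ) : z3 j < n := by
  unfold z3
  split <;> norm_num

theorem z3_inj {i j : ℕ} (hi : i < 4) (hj : j < 4) (h : z3 i = z3 j) : i = j := by
  interval_cases i <;> interval_cases j <;> first | rfl | exact absurd h (by decide)

theorem inO3_iff {z : ℕ} (h : inO3 z = true) : ∃ j, j < 4 ∧ z = z3 j := by
  unfold inO3 at h
  rcases orB_true h with h | h
  · exact ⟨0, by norm_num, Nat.eq_of_beq_eq_true h⟩
  rcases orB_true h with h | h
  · exact ⟨1, by norm_num, Nat.eq_of_beq_eq_true h⟩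
  rcases orB_true h with h | h
  · exact ⟨2, by norm_num, Nat.eq_of_beq_eq_true h⟩
  · exact ⟨3, by norm_num, Nat.eq_of_beq_eq_true h⟩

/-- the elements of the third level. -/
def k3 (j : ℕ) : Equiv.Perm (Fin n) := if j = 0 then 1 else genP (j + 2)

theorem k3_isAut (j : ℕ) : IsAut (k3 j) := by
  unfold k3
  split
  · exact isAut_one
  · exact genP_isAut _

theorem k3_mem_K2 {j : ℕ} (hj : j < 4) : k3 j ∈ K2 := by
  unfold k3
  split
  · exact K2.one_mem
  · exact genP_mem_K2 (by omega)

theorem k3_mem (j : ℕ) : k3 j ∈ G := by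
  unfold k3
  split
  · exact G.one_mem
  · exact genP_mem _

theorem k3_zero {j : ℕ} (hj : j < 4) : k3 j (toF 0) = toF 0 := by
  unfold k3
  split
  · rfl
  · exact genP_zero (by omega)

theorem k3_b2 {j : ℕ} (hj : j < 4) : k3 j (toF b2) = toF b2 := by
  have h := gen_three_b
  have h1 := (andB_true h).1
  have h3 := (andB_true h1).1
  have h4 := (andB_true (andB_true h1).2).1
  have h5 := (andB_true (andB_true h1).2).2
  interval_cases j
  · rfl
  · apply Fin.ext
    change (genP 3 (toF 6)).val = 6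
    rw [genP_apply]
    exact Nat.eq_of_beq_eq_true h3
  · apply Fin.ext
    change (genP 4 (toF 6)).val = 6
    rw [genP_apply]
    exact Nat.eq_of_beq_eq_true h4
  · apply Fin.ext
    change (genP 5 (toF 6)).val = 6
    rw [genP_apply]
    exact Nat.eq_of_beq_eq_true h5

theorem k3_b3 {j : ℕ} (hj : j < 4) : k3 j (toF b3) = toF (z3 j) := by
  have h := gen_three_b
  have h1 := (andB_true h).2
  have h3 := (andB_true h1).1
  have h4 := (andB_true (andB_true h1).2).1
  have h5 := (andB_true (andB_true h1).2).2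
  interval_cases j
  · rfl
  · apply Fin.ext
    change (genP 3 (toF 1)).val = 5458
    rw [genP_apply]
    exact Nat.eq_of_beq_eq_true h3
  · apply Fin.ext
    change (genP 4 (toF 1)).val = 3330
    rw [genP_apply]
    exact Nat.eq_of_beq_eq_true h4
  · apply Fin.ext
    change (genP 5 (toF 1)).val = 2750
    rw [genP_apply]
    exact Nat.eq_of_beq_eq_true h5

theorem k3_closed {a i : ℕ} (ha : a < 4) (hi : i < 4) :
    ∃ j, j < 4 ∧ k3 a (toF (z3 i)) = toF (z3 j) := by
  rcases Nat.eq_zero_or_pos a with h0 | h0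
  · subst h0
    exact ⟨i, hi, rfl⟩
  · have ha3 : a - 1 < 3 := by omega
    have h := allB_true o3_closed_b ha3
    have e : Nat.add (a - 1) 3 = a + 2 := by
      change a - 1 + 3 = a + 2
      omega
    rw [e] at h
    have hk : k3 a = genP (a + 2) := by
      unfold k3
      rw [if_neg (by omega)]
    have key : inO3 (gen (a + 2) (z3 i)) = true := by
      have h1 := (andB_true h).1
      have h2 := (andB_true (andB_true h).2).1
      have h3 := (andB_true (andB_true (andB_true h).2).2).1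
      have h4 := (andB_true (andB_true (andB_true h).2).2).2
      interval_cases i
      · exact h1
      · exact h2
      · exact h3
      · exact h4
    obtain ⟨j, hj, hz⟩ := inO3_iff key
    refine ⟨j, hj, ?_⟩
    apply Fin.ext
    rw [hk, genP_apply, toF_of_lt (z3_lt i), toF_of_lt (z3_lt j)]
    exact hz

/-- the generators of the third level. -/
def A3 : Set (Equiv.Perm (Fin n)) := Set.range (fun j : Fin 4 => k3 j.val)

/-- the group of the third level. -/
def K3 : Subgroup (Equiv.Perm (Fin n)) := Subgroup.closure A3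

theorem k3_mem_K3 {j : ℕ} (hj : j < 4) : k3 j ∈ K3 := Subgroup.subset_closure ⟨⟨j, hj⟩, rfl⟩

theorem card_K3_le : Nat.card K3 ≤ 4 := by
  have h := card_closure_le A3 ⊥ (Finset.range 4) k3
    ⟨0, Finset.mem_range.2 (by norm_num), by rw [Subgroup.mem_bot]; rfl⟩ ?_
  · rw [Finset.card_range, Subgroup.card_bot, mul_one] at h
    exact h
  rintro _ ⟨a, rfl⟩ i hi
  have hi' := Finset.mem_range.1 hi
  obtain ⟨j, hj, hji⟩ := k3_closed a.isLt hi'
  refine ⟨j, Finset.mem_range.2 hj, ?_⟩
  rw [Subgroup.mem_bot]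
  apply rigid
  · exact isAut_mul (isAut_mul (isAut_inv (k3_isAut j)) (k3_isAut _)) (k3_isAut i)
  · change (k3 j)⁻¹ (k3 a.val (k3 i (toF 0))) = toF 0
    rw [k3_zero hi', k3_zero a.isLt]
    exact inv_app (k3_zero hj)
  · change (k3 j)⁻¹ (k3 a.val (k3 i (toF b2))) = toF b2
    rw [k3_b2 hi', k3_b2 a.isLt]
    exact inv_app (k3_b2 hj)
  · change (k3 j)⁻¹ (k3 a.val (k3 i (toF b3))) = toF b3
    rw [k3_b3 hi', hji]
    exact inv_app (k3_b3 hj)

/-! ### The second level -/

/-- the orbit of the second base point. -/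
def O2 : Finset ℕ := (Finset.range n).filter (fun y => lk3 subcolP y = 2)

theorem mem_O2 {y : ℕ} : y ∈ O2 ↔ y < n ∧ lk3 subcolP y = 2 := by
  unfold O2
  rw [Finset.mem_filter, Finset.mem_range]

theorem toF_b2_val : (toF b2).val = 6 := rfl

theorem toF_b3_val : (toF b3).val = 1 := rfl

theorem U2_b2 {y : ℕ} (hy : y ∈ O2) : U2 8 y (toF b2) = toF y := by
  obtain ⟨hy1, hy2⟩ := mem_O2.1 hy
  apply Fin.ext
  rw [U2_apply, toF_of_lt hy1, toF_b2_val]
  have h := Nat.eq_of_beq_eq_true (chkT2_all y hy1)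
  rw [hy2, rep_two] at h
  exact h

theorem chkL2_spec {a y : ℕ} (h : chkL2 a y = true) (hy2 : lk3 subcolP y = 2) :
    lk3 subcolP (gen a y) = 2 ∧ inO3 (bw2 8 (gen a y) (gen a (fw2 8 y 1))) = true := by
  unfold chkL2 at h
  rw [hy2, sapp_eq] at h
  have h' : andB (Nat.beq (lk3 subcolP (gen a y)) 2)
      (inO3 (bw2 8 (gen a y) (gen a (fw2 8 y 1)))) = true := h
  exact ⟨Nat.eq_of_beq_eq_true (andB_true h').1, (andB_true h').2⟩

theorem chkL2_all {a : ℕ} (ha : a < 6) {y : ℕ} (hy : y < n) : chkL2 a y = true := by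
  interval_cases a
  · exact chkL2a_all y hy
  · exact chkL2b_all y hy
  · exact chkL2c_all y hy
  · exact chkL2d_all y hy
  · exact chkL2e_all y hy
  · exact chkL2f_all y hy

theorem card_K2_le : Nat.card K2 ≤ O2.card * Nat.card K3 := by
  apply card_closure_le A2 K3 O2 (U2 8)
  · refine ⟨6, mem_O2.2 ⟨by norm_num, subcol_six⟩, ?_⟩
    have : U2 8 6 = 1 := by
      unfold U2
      rw [if_pos tree2_six]
    rw [this]
    exact K3.one_mem
  · rintro _ ⟨a, rfl⟩ y hy
    obtain ⟨hy1, hy2⟩ := mem_O2.1 hy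
    by_cases ha : a.val < 6
    · obtain ⟨hc, hz⟩ := chkL2_spec (chkL2_all ha hy1) hy2
      obtain ⟨j, hj, hzj⟩ := inO3_iff hz
      have hy'lt : gen a.val y < n := by
        have := (genP a.val (toF y)).isLt
        rwa [genP_apply, toF_of_lt hy1] at this
      have hy' : gen a.val y ∈ O2 := mem_O2.2 ⟨hy'lt, hc⟩
      refine ⟨gen a.val y, hy', ?_⟩
      have e1 : genP a.val (toF y) = toF (gen a.val y) := by
        apply Fin.ext
        rw [genP_apply, toF_of_lt hy1, toF_of_lt hy'lt]
      have key : (k3 j)⁻¹ * ((U2 8 (gen a.val y))⁻¹ * genP a.val * U2 8 y) = 1 := by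
        apply rigid
        · exact isAut_mul (isAut_inv (k3_isAut j)) (isAut_mul (isAut_mul
            (isAut_inv (U2_isAut _ _)) (genP_isAut _)) (U2_isAut _ _))
        · change (k3 j)⁻¹ ((U2 8 _)⁻¹ (genP a.val (U2 8 y (toF 0)))) = toF 0
          rw [U2_zero, genP_zero a.isLt, inv_app (U2_zero _ _)]
          exact inv_app (k3_zero hj)
        · change (k3 j)⁻¹ ((U2 8 _)⁻¹ (genP a.val (U2 8 y (toF b2)))) = toF b2
          rw [U2_b2 hy, e1, inv_app (U2_b2 hy')]
          exact inv_app (k3_b2 hj)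
        · change (k3 j)⁻¹ ((U2 8 _)⁻¹ (genP a.val (U2 8 y (toF b3)))) = toF b3
          have e2 : (U2 8 (gen a.val y))⁻¹ (genP a.val (U2 8 y (toF b3))) = toF (z3 j) := by
            apply Fin.ext
            rw [U2_inv_apply, genP_apply, U2_apply, toF_of_lt (z3_lt j), toF_b3_val]
            exact hzj
          rw [e2]
          exact inv_app (k3_b3 hj)
      rw [← inv_mul_eq_one.1 key]
      exact k3_mem_K3 hj
    · have ha' : a.val = 6 ∨ a.val = 7 := by
        have := a.isLt
        omega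
      refine ⟨y, hy, ?_⟩
      change (U2 8 y)⁻¹ * genP a.val * U2 8 y ∈ K3
      have : genP a.val = 1 := by
        rcases ha' with h | h
        · rw [h]
          exact genP_six
        · rw [h]
          exact genP_seven
      rw [this, mul_one, inv_mul_cancel]
      exact K3.one_mem

/-! ### The first level -/

theorem chkL1_spec {s x : ℕ} (h : chkL1 s x = true) :
    lk3 subcolP (bw1 11 (app s x) (app s (fw1 11 x 6))) = 2 ∧
    inO3 (bw2 8 (bw1 11 (app s x) (app s (fw1 11 x 6)))
      (bw1 11 (app s x) (app s (fw1 11 x 1)))) = true := by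
  unfold chkL1 at h
  rw [sapp_eq, sapp_eq] at h
  exact ⟨Nat.eq_of_beq_eq_true (andB_true h).1, (andB_true h).2⟩

theorem T1_zero {x : ℕ} (hx : x < n) : T1 11 x (toF 0) = toF x := by
  apply Fin.ext
  rw [T1_apply, toF_of_lt hx, toF_zero_val]
  exact Nat.eq_of_beq_eq_true (chkT1_all x hx)

/-- two letters. -/
def A1 : Set (Equiv.Perm (Fin n)) := Set.range (fun s : Fin 2 => P s.val)

theorem G_le : G ≤ Subgroup.closure A1 := by
  unfold G
  rw [Subgroup.closure_le]
  have h0 : P 0 ∈ Subgroup.closure A1 := Subgroup.subset_closure ⟨0, rfl⟩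
  have h1 : P 1 ∈ Subgroup.closure A1 := Subgroup.subset_closure ⟨1, rfl⟩
  have e2 : P 2 = (P 0)⁻¹ := P_linv 0 (by norm_num)
  have e3 : P 3 = (P 1)⁻¹ := P_linv 1 (by norm_num)
  rintro _ ⟨l, rfl⟩
  fin_cases l
  · exact h0
  · exact h1
  · change P 2 ∈ _
    rw [e2]
    exact inv_mem h0
  · change P 3 ∈ _
    rw [e3]
    exact inv_mem h1

theorem card_G_le : Nat.card G ≤ n * Nat.card K2 := by
  have h := card_closure_le A1 K2 (Finset.range n) (T1 11)
    ⟨0, Finset.mem_range.2 (by norm_num), K2.one_mem⟩ ?_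
  · calc Nat.card G ≤ Nat.card (Subgroup.closure A1) := Subgroup.card_le_of_le G_le
      _ ≤ (Finset.range n).card * Nat.card K2 := h
      _ = n * Nat.card K2 := by rw [Finset.card_range]
  rintro _ ⟨s, rfl⟩ x hx
  have hx' := Finset.mem_range.1 hx
  have hs : s.val < 4 := by
    have := s.isLt
    omega
  have hx'lt : app s.val x < n := by
    have := (P s.val (toF x)).isLt
    rwa [P_apply_lt hs, toF_of_lt hx'] at this
  refine ⟨app s.val x, Finset.mem_range.2 hx'lt, ?_⟩
  have hchk : chkL1 s.val x = true := by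
    fin_cases s
    · exact chkL1a_all x hx'
    · exact chkL1b_all x hx'
  obtain ⟨hc, hz⟩ := chkL1_spec hchk
  obtain ⟨j, hj, hzj⟩ := inO3_iff hz
  have hp2lt : bw1 11 (app s.val x) (app s.val (fw1 11 x 6)) < n := by
    have := ((T1 11 (app s.val x))⁻¹ (P s.val (T1 11 x (toF b2)))).isLt
    rwa [T1_inv_apply, P_apply_lt hs, T1_apply, toF_b2_val] at this
  have hp3lt : bw1 11 (app s.val x) (app s.val (fw1 11 x 1)) < n := by
    have := ((T1 11 (app s.val x))⁻¹ (P s.val (T1 11 x (toF b3)))).isLt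
    rwa [T1_inv_apply, P_apply_lt hs, T1_apply, toF_b3_val] at this
  have hp2 : bw1 11 (app s.val x) (app s.val (fw1 11 x 6)) ∈ O2 := mem_O2.2 ⟨hp2lt, hc⟩
  have e0 : P s.val (toF x) = toF (app s.val x) := by
    apply Fin.ext
    rw [P_apply_lt hs, toF_of_lt hx', toF_of_lt hx'lt]
  have e2 : (T1 11 (app s.val x))⁻¹ (P s.val (T1 11 x (toF b2))) =
      toF (bw1 11 (app s.val x) (app s.val (fw1 11 x 6))) := by
    apply Fin.ext
    rw [T1_inv_apply, P_apply_lt hs, T1_apply, toF_of_lt hp2lt, toF_b2_val]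
  have e3 : (T1 11 (app s.val x))⁻¹ (P s.val (T1 11 x (toF b3))) =
      toF (bw1 11 (app s.val x) (app s.val (fw1 11 x 1))) := by
    apply Fin.ext
    rw [T1_inv_apply, P_apply_lt hs, T1_apply, toF_of_lt hp3lt, toF_b3_val]
  have e4 : (U2 8 (bw1 11 (app s.val x) (app s.val (fw1 11 x 6))))⁻¹
      (toF (bw1 11 (app s.val x) (app s.val (fw1 11 x 1)))) = toF (z3 j) := by
    apply Fin.ext
    rw [U2_inv_apply, toF_of_lt hp3lt, toF_of_lt (z3_lt j)]
    exact hzj
  have key : (U2 8 (bw1 11 (app s.val x) (app s.val (fw1 11 x 6))) * k3 j)⁻¹ *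
      ((T1 11 (app s.val x))⁻¹ * P s.val * T1 11 x) = 1 := by
    apply rigid
    · exact isAut_mul (isAut_inv (isAut_mul (U2_isAut _ _) (k3_isAut j)))
        (isAut_mul (isAut_mul (isAut_inv (T1_isAut _ _)) (P_isAut _)) (T1_isAut _ _))
    · change (U2 8 _ * k3 j)⁻¹ ((T1 11 _)⁻¹ (P s.val (T1 11 x (toF 0)))) = toF 0
      rw [T1_zero hx', e0, inv_app (T1_zero hx'lt)]
      apply inv_app
      change U2 8 _ (k3 j (toF 0)) = toF 0
      rw [k3_zero hj, U2_zero]
    · change (U2 8 _ * k3 j)⁻¹ ((T1 11 _)⁻¹ (P s.val (T1 11 x (toF b2)))) = toF b2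
      rw [e2]
      apply inv_app
      change U2 8 _ (k3 j (toF b2)) = _
      rw [k3_b2 hj, U2_b2 hp2]
    · change (U2 8 _ * k3 j)⁻¹ ((T1 11 _)⁻¹ (P s.val (T1 11 x (toF b3)))) = toF b3
      rw [e3]
      apply inv_app
      change U2 8 _ (k3 j (toF b3)) = _
      rw [k3_b3 hj, ← e4]
      exact (U2 8 _).apply_symm_apply _
  rw [← inv_mul_eq_one.1 key]
  exact K2.mul_mem (U2_mem_K2 _ _) (k3_mem_K2 hj)

/-! ### The order -/

theorem card_G_ge : n * (O2.card * 4) ≤ Nat.card G := by
  let f : Fin n × O2 × Fin 4 → G := fun t =>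
    ⟨T1 11 t.1.val * U2 8 t.2.1.val * k3 t.2.2.val,
      G.mul_mem (G.mul_mem (T1_mem _ _) (U2_mem _ _)) (k3_mem _)⟩
  have hf : Function.Injective f := by
    rintro ⟨x, y, j⟩ ⟨x', y', j'⟩ h
    have h0 : T1 11 x.val * U2 8 y.val * k3 j.val =
        T1 11 x'.val * U2 8 y'.val * k3 j'.val := congrArg Subtype.val h
    have e0 : T1 11 x.val (U2 8 y.val (k3 j.val (toF 0))) =
        T1 11 x'.val (U2 8 y'.val (k3 j'.val (toF 0))) :=
      congrArg (fun σ : Equiv.Perm (Fin n) => σ (toF 0)) h0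
    rw [k3_zero j.isLt, k3_zero j'.isLt, U2_zero, U2_zero, T1_zero x.isLt, T1_zero x'.isLt,
      toF_val, toF_val] at e0
    subst e0
    have h1 : U2 8 y.val * k3 j.val = U2 8 y'.val * k3 j'.val := by
      rw [mul_assoc, mul_assoc] at h0
      exact mul_left_cancel h0
    have e1 : U2 8 y.val (k3 j.val (toF b2)) = U2 8 y'.val (k3 j'.val (toF b2)) :=
      congrArg (fun σ : Equiv.Perm (Fin n) => σ (toF b2)) h1
    rw [k3_b2 j.isLt, k3_b2 j'.isLt, U2_b2 y.2, U2_b2 y'.2] at e1
    have e1' : y.val = y'.val := by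
      have := congrArg Fin.val e1
      rwa [toF_of_lt (mem_O2.1 y.2).1, toF_of_lt (mem_O2.1 y'.2).1] at this
    have hy : y = y' := Subtype.ext e1'
    subst hy
    have h2 : k3 j.val = k3 j'.val := mul_left_cancel h1
    have e2 : k3 j.val (toF b3) = k3 j'.val (toF b3) :=
      congrArg (fun σ : Equiv.Perm (Fin n) => σ (toF b3)) h2
    rw [k3_b3 j.isLt, k3_b3 j'.isLt] at e2
    have e2' : z3 j.val = z3 j'.val := by
      have := congrArg Fin.val e2
      rwa [toF_of_lt (z3_lt _), toF_of_lt (z3_lt _)] at this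
    have hj : j = j' := Fin.ext (z3_inj j.isLt j'.isLt e2')
    rw [hj]
  have h := Nat.card_le_card_of_injective f hf
  rw [Nat.card_prod, Nat.card_prod, Nat.card_eq_fintype_card, Nat.card_eq_fintype_card,
    Nat.card_eq_fintype_card, Fintype.card_fin, Fintype.card_fin, Fintype.card_coe] at h
  exact h

set_option maxRecDepth 1000000 in
theorem card_O2 : O2.card = 2040 := by decide +kernel

theorem card_G : Nat.card G = 50232960 := by
  have h1 := card_G_le
  have h2 := card_K2_le
  have h3 := card_K3_le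
  have h4 := card_G_ge
  rw [card_O2] at h2 h4
  have h5 : Nat.card K2 ≤ 2040 * 4 := h2.trans (Nat.mul_le_mul_left _ h3)
  have h6 : Nat.card G ≤ 6156 * (2040 * 4) := h1.trans (Nat.mul_le_mul_left _ h5)
  have h7 : 6156 * (2040 * 4) ≤ Nat.card G := h4
  omega

end Cfsg.Agent.Helper9.J3
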