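import Mathlib
import Cfsg.Agent.Helper9.J3.Levels
import Cfsg.Agent.Helper9.PrimSimple2
import Cfsg.Agent.Helper9.PrimSimple6

set_option autoImplicit false

/-!
The group `G` is transitive and primitive on the 6156 points, with point stabiliser of order
8160, and simple.
-/

namespace Cfsg.Agent.Helper9.J3

open Cfsg.Agent.Helper9.PChain MulAction

theorem toF_zero : toF 0 = (0 : Fin n) := rfl

instance pretransitive : IsPretransitive ↥G (Fin n) := by
  constructor
  intro x y
  refine ⟨⟨T1 11 y.val * (T1 11 x.val)⁻¹, G.mul_mem (T1_mem _ _) (G.inv_mem (T1_mem _ _))⟩, ?_⟩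
  change T1 11 y.val ((T1 11 x.val)⁻¹ x) = y
  have hx := T1_zero x.isLt
  have hy := T1_zero y.isLt
  rw [toF_val] at hx hy
  rw [inv_app hx, hy]

theorem card_stab : Nat.card (stabilizer ↥G (0 : Fin n)) = 8160 := by
  have h1 : (stabilizer ↥G (0 : Fin n)).index = (orbit ↥G (0 : Fin n)).ncard :=
    index_stabilizer ↥G (0 : Fin n)
  have h2 : orbit ↥G (0 : Fin n) = Set.univ := orbit_eq_univ ↥G (0 : Fin n)
  rw [h2, Set.ncard_univ, Nat.card_eq_fintype_card, Fintype.card_fin] at h1
  have h3 := Subgroup.index_mul_card (stabilizer ↥G (0 : Fin n))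
  rw [h1, card_G] at h3
  have h4 : 6156 * Nat.card (stabilizer ↥G (0 : Fin n)) = 50232960 := h3
  omega

/-- the colour of a point: the orbit of the stabiliser of the first base point. -/
def colour (y : Fin n) : ℤ := (lk3 subcolP y.val : ℕ)

/-- the lengths of the orbits. -/
def sz (c : ℤ) : ℕ :=
  if c = 1 then 1360 else if c = 2 then 2040 else if c = 3 then 1360 else if c = 4 then 120
  else if c = 5 then 510 else if c = 6 then 680 else 85

theorem ncard_fin_filter (p : ℕ → Prop) [DecidablePred p] :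
    {y : Fin n | p y.val}.ncard = ((Finset.range n).filter p).card := by
  rw [← Set.ncard_image_of_injective _ Fin.val_injective, ← Set.ncard_coe_finset]
  congr 1
  ext x
  constructor
  · rintro ⟨y, hy, rfl⟩
    exact Finset.mem_filter.2 ⟨Finset.mem_range.2 y.isLt, hy⟩
  · intro hx
    have hx' := Finset.mem_filter.1 hx
    exact ⟨⟨x, Finset.mem_range.1 hx'.1⟩, hx'.2, rfl⟩

set_option maxRecDepth 1000000 in
theorem count_colours : ∀ c ∈ Finset.range 8, c ≠ 0 →
    ((Finset.range n).filter (fun y => lk3 subcolP y = c)).card = sz (c : ℕ) := by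
  decide +kernel

theorem ncard_colour : ∀ c ∈ ({1, 2, 3, 4, 5, 6, 7} : Finset ℤ),
    {y : Fin n | colour y = c}.ncard = sz c := by
  intro c hc
  have key : ∀ k : ℕ, k ∈ Finset.range 8 → k ≠ 0 →
      {y : Fin n | colour y = (k : ℤ)}.ncard = sz (k : ℤ) := by
    intro k hk hk0
    have : {y : Fin n | colour y = (k : ℤ)} = {y : Fin n | lk3 subcolP y.val = k} := by
      ext y
      change ((lk3 subcolP y.val : ℕ) : ℤ) = (k : ℤ) ↔ lk3 subcolP y.val = k
      exact Int.natCast_inj
    rw [this, ncard_fin_filter (fun y => lk3 subcolP y = k)]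
    exact count_colours k hk hk0
  simp only [Finset.mem_insert, Finset.mem_singleton] at hc
  rcases hc with rfl | rfl | rfl | rfl | rfl | rfl | rfl
  · exact key 1 (by decide) (by decide)
  · exact key 2 (by decide) (by decide)
  · exact key 3 (by decide) (by decide)
  · exact key 4 (by decide) (by decide)
  · exact key 5 (by decide) (by decide)
  · exact key 6 (by decide) (by decide)
  · exact key 7 (by decide) (by decide)

theorem colour_zero : colour (0 : Fin n) = 0 := by
  have : lk3 subcolP 0 = 0 := by decide +kernel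
  change ((lk3 subcolP 0 : ℕ) : ℤ) = 0
  rw [this]
  rfl

/-- the element of the second tree moves the representative of the orbit to the point. -/
theorem U2_rep (y : Fin n) : U2 8 y.val (toF (lk13 repP (lk3 subcolP y.val))) = y := by
  apply Fin.ext
  rw [U2_apply]
  have h := Nat.eq_of_beq_eq_true (chkT2_all y.val y.isLt)
  have hlt : lk13 repP (lk3 subcolP y.val) < n := by
    have h8 : lk3 subcolP y.val < 8 := lkF_lt 3 subcolP y.val
    have : ∀ c, c < 8 → lk13 repP c < n := by decide
    exact this _ h8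
  rw [toF_of_lt hlt]
  exact h

theorem stab_move (y y' : Fin n) (h : colour y = colour y') :
    ∃ k ∈ stabilizer ↥G (0 : Fin n), k • y = y' := by
  have hc : lk3 subcolP y.val = lk3 subcolP y'.val := by
    have : ((lk3 subcolP y.val : ℕ) : ℤ) = ((lk3 subcolP y'.val : ℕ) : ℤ) := h
    exact Int.natCast_inj.1 this
  refine ⟨⟨U2 8 y'.val * (U2 8 y.val)⁻¹, G.mul_mem (U2_mem _ _) (G.inv_mem (U2_mem _ _))⟩,
    ?_, ?_⟩
  · rw [mem_stabilizer_iff]
    change U2 8 y'.val ((U2 8 y.val)⁻¹ (0 : Fin n)) = 0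
    rw [← toF_zero, inv_app (U2_zero 8 y.val), U2_zero]
  · change U2 8 y'.val ((U2 8 y.val)⁻¹ y) = y'
    rw [inv_app (U2_rep y), hc, U2_rep y']

set_option maxRecDepth 1000000 in
theorem arith : ∀ C ∈ ({1, 2, 3, 4, 5, 6, 7} : Finset ℤ).powerset,
    (1 + ∑ c ∈ C, sz c) ∣ 6156 → C = ∅ ∨ C = ({1, 2, 3, 4, 5, 6, 7} : Finset ℤ) := by
  decide +kernel

instance preprimitive : IsPreprimitive ↥G (Fin n) := by
  refine Cfsg.Agent.Helper9.preprimitive_of_colours (0 : Fin n) colour
    ({1, 2, 3, 4, 5, 6, 7} : Finset ℤ) sz 6156 (by simp) ?_ ncard_colour (by decide) ?_ arith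
  · rw [colour_zero]
    decide
  · intro y y' _ hyy'
    exact stab_move y y' hyy'

instance : Finite ↥G := inferInstance

instance nontrivial : Nontrivial ↥G := by
  rw [← Finite.one_lt_card_iff_nontrivial, card_G]
  norm_num

/-- the iterates of a letter. -/
def iter19 (l x : ℕ) : ℕ := Nat.rec x (fun _ acc => app l acc) 19

set_option maxRecDepth 1000000 in
theorem pow19_b : allB (fun l => allB (fun x => Nat.beq (iter19 l x) x) n) 2 = true := by
  decide +kernel

theorem P_pow_apply {l : ℕ} (hl : l < 4) (k : ℕ) (x : Fin n) :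
    (((P l) ^ k) x).val = Nat.rec x.val (fun _ acc => app l acc) k := by
  induction k with
  | zero => rfl
  | succ k ih =>
    rw [pow_succ']
    change (P l (((P l) ^ k) x)).val = app l (Nat.rec x.val (fun _ acc => app l acc) k)
    rw [P_apply_lt hl, ih]

theorem P_pow19 (l : ℕ) : (P l) ^ 19 = 1 := by
  have h01 : ∀ l, l < 2 → (P l) ^ 19 = 1 := by
    intro l hl
    ext x
    rw [P_pow_apply (by omega) 19 x]
    exact Nat.eq_of_beq_eq_true (allB_true (allB_true pow19_b hl) x.isLt)
  by_cases hl : l < 4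
  · interval_cases l
    · exact h01 0 (by norm_num)
    · exact h01 1 (by norm_num)
    · have : P 2 = (P 0)⁻¹ := P_linv 0 (by norm_num)
      rw [this, inv_pow, h01 0 (by norm_num), inv_one]
    · have : P 3 = (P 1)⁻¹ := P_linv 1 (by norm_num)
      rw [this, inv_pow, h01 1 (by norm_num), inv_one]
  · unfold P
    rw [dif_neg hl, one_pow]

theorem simple : IsSimpleGroup ↥G := by
  refine Cfsg.Agent.Helper9.simple_of_prim_sylow (X := Fin n) (0 : Fin n) 19 1 (by norm_num)
    (by rw [Nat.card_eq_fintype_card, Fintype.card_fin]; norm_num)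
    (by rw [card_G]; norm_num) ?_
  intro V hV
  have hP : ∀ l : ℕ, (⟨P l, P_mem l⟩ : ↥G) ∈ V := by
    intro l
    apply hV
    apply Subtype.ext
    change (P l) ^ (19 ^ 1) = 1
    rw [pow_one, P_pow19]
  rw [eq_top_iff]
  rintro ⟨g, hg⟩ -
  have key : G ≤ V.map G.subtype := by
    unfold G
    rw [Subgroup.closure_le]
    rintro x ⟨l, rfl⟩
    exact ⟨⟨P l.val, P_mem l.val⟩, hP l.val, rfl⟩
  obtain ⟨z, hz, hzg⟩ := key hg
  have : z = ⟨g, hg⟩ := Subtype.ext hzg
  rw [← this]
  exact hz

end Cfsg.Agent.Helper9.J3
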